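import Groth.Agent.Lib.MultHopf14.ToScheme
import Groth.Agent.Lib.MultHopf14.FgCharts
import Groth.Agent.Lib.DiagGrp.BaseChange
import Groth.Agent.Lib.EssFree.Transporter
import Mathlib.AlgebraicGeometry.Morphisms.Etale

/-!
Etale charts of groups of multiplicative type and of finite type.
-/

universe u

open CategoryTheory MonoidalCategory CartesianMonoidalCategory MonObj GrpObj AlgebraicGeometry

set_option backward.isDefEq.respectTransparency false

namespace GrothLib.CentLoc14

open GrothLib.DiagGrp (fgM HasChartsFpqc HasChart)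

/-- A group of multiplicative type and of finite type has an etale chart at every point. -/
theorem exists_etale_chart {S : Scheme.{u}} {H : Over S} [GrpObj H] (hH : HasChartsFpqc fgM H) (x : S) :
    ∃ (R' : CommRingCat.{u}) (f : Spec R' ⟶ S), Etale f ∧ x ∈ Set.range f.base ∧ HasChart fgM H f := by
  classical
  obtain ⟨V, hV, hxV, -⟩ :=
    exists_isAffineOpen_mem_and_subset (show x ∈ (⊤ : S.Opens) from TopologicalSpace.Opens.mem_top _)
  let R := Γ(S, V)
  let v : Spec (CommRingCat.of R) ⟶ S := hV.fromSpec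
  haveI : IsOpenImmersion v := hV.isOpenImmersion_fromSpec
  let H₁ := Red.bc v H
  have hch : HasChartsFpqc fgM H₁ := hH.baseChange v
  obtain ⟨A, _, _, ⟨e₀⟩⟩ := MultHopf14.exists_hopf H₁ (GrothLib.EssFree.isAffineHom_of_charts hch)
  have hchA : HasChartsFpqc fgM (MultHopf14.specGrp (R := R) A) := by
    obtain ⟨S', π, h1, h2, h3, h4⟩ := hch
    refine ⟨S', π, h1, h2, h3, fun s' => ?_⟩
    obtain ⟨U, hU, M, inst, hM, ⟨e⟩⟩ := h4 s'
    exact ⟨U, hU, M, inst, hM, ⟨(Over.pullback _).mapGrp.mapIso e₀ ≪≫ e⟩⟩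
  haveI : Algebra.FinitePresentation R A := by
    have h : LocallyOfFinitePresentation
        (Spec.map (CommRingCat.ofHom (algebraMap R A))) := GrothLib.DiagGrp.lfp_of_isMultTypeFT hchA
    rw [HasRingHomProperty.Spec_iff (P := @LocallyOfFinitePresentation), CommRingCat.hom_ofHom,
      RingHom.finitePresentation_algebraMap] at h
    exact h
  obtain ⟨σ, E, _, _, hE, hEet, M, _, hMfg, g, hg⟩ :=
    MultHopf14.exists_etale_frames (MultHopf14.isMultType_of_charts hchA)
  obtain ⟨x₁, hx₁⟩ : x ∈ Set.range v.base := by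
    change x ∈ Set.range hV.fromSpec.base
    rw [hV.range_fromSpec]
    exact hxV
  obtain ⟨i, y, hy⟩ := hE.surj x₁
  obtain ⟨N, inst, hN, ⟨e⟩⟩ := MultHopf14.hasChart_of_frame (hMfg i) (hg i)
  let f₁ : Spec (CommRingCat.of (E i)) ⟶ Spec (CommRingCat.of R) := Spec.map (CommRingCat.ofHom (algebraMap R (E i)))
  haveI : Etale f₁ := by
    rw [HasRingHomProperty.Spec_iff (P := @Etale), CommRingCat.hom_ofHom, RingHom.etale_algebraMap]
    exact hEet i
  refine ⟨CommRingCat.of (E i), f₁ ≫ v, inferInstance, ⟨y, ?_⟩, N, inst, hN, ⟨?_⟩⟩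
  · rw [Scheme.Hom.comp_apply, ← hx₁]
    exact congrArg v.base hy
  · exact GrothLib.DiagGrp.bcGrpComp H v f₁ (f₁ ≫ v) rfl ≪≫ (Over.pullback f₁).mapGrp.mapIso e₀.symm ≪≫ e

end GrothLib.CentLoc14
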