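import Groth.Agent.Lib.MultLocal.Torsion
import Mathlib.AlgebraicGeometry.Morphisms.ClosedImmersion
import Mathlib.AlgebraicGeometry.Morphisms.Separated
import Mathlib.AlgebraicGeometry.ResidueField
import Mathlib.AlgebraicGeometry.Morphisms.Immersion

/-!
Morphisms out of a split group of multiplicative type are determined by the finite levels.
-/

universe u

open CategoryTheory CategoryTheory.Limits AlgebraicGeometry

namespace GrothLib.CentLoc14

variable (M : Type) [AddCommGroup M]

/-- The characters of the kernel of multiplication by `n`. -/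
abbrev Level (n : ℕ) : Type := Multiplicative M ⧸ MultLocal.powSub (Multiplicative M) n

/-- The projection to the characters of a level. -/
abbrev levelProj (n : ℕ) : Multiplicative M →* Level M n := QuotientGroup.mk' _

/-- Restriction to a level. -/
noncomputable abbrev levelMap (L : Type u) [CommRing L] (n : ℕ) :
    MonoidAlgebra L (Multiplicative M) →+* MonoidAlgebra L (Level M n) :=
  MonoidAlgebra.mapDomainRingHom L (levelProj M n)

variable {M}

theorem finite_level (hM : AddGroup.FG M) {n : ℕ} (hn : 0 < n) : Finite (Level M n) := by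
  haveI : Group.FG (Multiplicative M) := AddGroup.fg_iff_mul_fg.mp hM
  exact MultLocal.finite_quot_powSub hn

/-- The levels detect zero. -/
theorem eq_zero_of_levels (hM : AddGroup.FG M) {L : Type u} [CommRing L] (x : MonoidAlgebra L (Multiplicative M))
    (h : ∀ n, 0 < n → levelMap M L n x = 0) : x = 0 := by
  classical
  haveI : Group.FG (Multiplicative M) := AddGroup.fg_iff_mul_fg.mp hM
  refine MonoidAlgebra.ext (Finsupp.ext fun m => ?_)
  obtain ⟨n, hn, hsep⟩ := MultLocal.exists_separating (x.coeff.support.image fun m' => m'⁻¹ * m)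
  have h1 := congrArg (fun z : MonoidAlgebra L (Level M n) => z.coeff (levelProj M n m)) (h n hn)
  rw [← MonoidAlgebra.sum_coeff_single x, Finsupp.sum, map_sum] at h1
  simp only [MonoidAlgebra.coeff_sum, Finset.sum_apply'] at h1
  rw [Finset.sum_eq_single m (fun m' hm' hne => ?_) (fun hm => by simp [Finsupp.notMem_support_iff.mp hm])] at h1
  · simpa using h1
  · rw [MonoidAlgebra.mapDomainRingHom_apply, MonoidAlgebra.mapDomain_single, MonoidAlgebra.coeff_single,
      Finsupp.single_eq_of_ne]
    intro he
    have hmem : m'⁻¹ * m ∈ MultLocal.powSub (Multiplicative M) n := QuotientGroup.eq.mp he.symm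
    exact hne (inv_mul_eq_one.mp (hsep _ (Finset.mem_image_of_mem _ hm') hmem))

/-- A closed subscheme of a split group containing all levels is everything. -/
theorem isIso_of_levels (hM : AddGroup.FG M) {L : Type u} [CommRing L] {E : Scheme.{u}}
    (e : E ⟶ Spec (CommRingCat.of (MonoidAlgebra L (Multiplicative M)))) [IsClosedImmersion e]
    (h : ∀ n, 0 < n → ∃ l, l ≫ e = Spec.map (CommRingCat.ofHom (levelMap M L n))) : IsIso e := by
  obtain ⟨I, i, he⟩ := IsClosedImmersion.Spec_iff.mp ‹IsClosedImmersion e›
  suffices hI : I = ⊥ by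
    subst hI
    rw [he]
    haveI : IsIso (CommRingCat.ofHom (Ideal.Quotient.mk (⊥ : Ideal (MonoidAlgebra L (Multiplicative M))))) :=
      (ConcreteCategory.isIso_iff_bijective _).2 ⟨(RingHom.injective_iff_ker_eq_bot _).2 Ideal.mk_ker,
        Ideal.Quotient.mk_surjective⟩
    infer_instance
  rw [eq_bot_iff]
  intro x hx
  rw [Ideal.mem_bot]
  refine eq_zero_of_levels hM x fun n hn => ?_
  obtain ⟨l, hl⟩ := h n hn
  have hk : CommRingCat.ofHom (levelMap M L n) =
      CommRingCat.ofHom (Ideal.Quotient.mk I) ≫ Spec.preimage (l ≫ i.hom) :=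
    Spec.map_injective (by rw [Spec.map_comp, Spec.map_preimage, Category.assoc, ← he, hl])
  refine (congrArg (fun φ => φ.hom x) hk).trans ?_
  show (Spec.preimage (l ≫ i.hom)).hom (Ideal.Quotient.mk I x) = 0
  rw [Ideal.Quotient.eq_zero_iff_mem.2 hx, map_zero]

/-- Into a separated scheme a morphism is determined by the levels. -/
theorem eq_of_levels_separated (hM : AddGroup.FG M) {L : Type u} [CommRing L] {Y Z : Scheme.{u}} (q : Y ⟶ Z)
    [IsSeparated q] (a b : Spec (CommRingCat.of (MonoidAlgebra L (Multiplicative M))) ⟶ Y) (hab : a ≫ q = b ≫ q)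
    (h : ∀ n, 0 < n → Spec.map (CommRingCat.ofHom (levelMap M L n)) ≫ a =
      Spec.map (CommRingCat.ofHom (levelMap M L n)) ≫ b) : a = b := by
  let e := pullback.fst (pullback.lift a b hab) (pullback.diagonal q)
  haveI : IsIso e := isIso_of_levels hM e fun n hn => ⟨pullback.lift _ (Spec.map (CommRingCat.ofHom (levelMap M L n)) ≫ a) (by
    apply pullback.hom_ext
    · rw [Category.assoc, Category.assoc, pullback.lift_fst, pullback.diagonal_fst, Category.comp_id]
    · rw [Category.assoc, Category.assoc, pullback.lift_snd, pullback.diagonal_snd, Category.comp_id]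
      exact (h n hn).symm), pullback.lift_fst _ _ _⟩
  have hc := pullback.condition (f := pullback.lift a b hab) (g := pullback.diagonal q)
  have h1 : e ≫ a = pullback.snd _ _ := (congrArg (e ≫ ·) (pullback.lift_fst a b hab)).symm.trans (by
    rw [← Category.assoc, hc, Category.assoc, pullback.diagonal_fst, Category.comp_id])
  have h2 : e ≫ b = pullback.snd _ _ := (congrArg (e ≫ ·) (pullback.lift_snd a b hab)).symm.trans (by
    rw [← Category.assoc, hc, Category.assoc, pullback.diagonal_snd, Category.comp_id])
  exact (cancel_epi e).mp (h1.trans h2.symm)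

/-- Into a scheme with separated fibres a morphism is determined by the levels. -/
theorem eq_of_levels (hM : AddGroup.FG M) {L : Type u} [CommRing L] {Y Z : Scheme.{u}} (q : Y ⟶ Z)
    (hsep : ∀ t : Z, IsSeparated (pullback.snd q (Z.fromSpecResidueField t)))
    (z : Spec (CommRingCat.of L) ⟶ Z)
    (a b : Spec (CommRingCat.of (MonoidAlgebra L (Multiplicative M))) ⟶ Y)
    (ha : a ≫ q = Spec.map (CommRingCat.ofHom MonoidAlgebra.singleOneRingHom) ≫ z)
    (hb : b ≫ q = Spec.map (CommRingCat.ofHom MonoidAlgebra.singleOneRingHom) ≫ z)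
    (h : ∀ n, 0 < n → Spec.map (CommRingCat.ofHom (levelMap M L n)) ≫ a =
      Spec.map (CommRingCat.ofHom (levelMap M L n)) ≫ b) : a = b := by
  have hab : a ≫ q = b ≫ q := ha.trans hb.symm
  let e := pullback.fst (pullback.lift a b hab) (pullback.diagonal q)
  have hall : ∀ P, P ∈ Set.range e.base := by
    intro P
    let F := (Spec (CommRingCat.of (MonoidAlgebra L (Multiplicative M)))).residueField P
    let π : MonoidAlgebra L (Multiplicative M) →+* F :=
      (Spec.preimage ((Spec (CommRingCat.of (MonoidAlgebra L (Multiplicative M)))).fromSpecResidueField P)).hom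
    have hπ : Spec.map (CommRingCat.ofHom π) =
        (Spec (CommRingCat.of (MonoidAlgebra L (Multiplicative M)))).fromSpecResidueField P := by
      rw [CommRingCat.ofHom_hom, Spec.map_preimage]
    let g : L →+* F := π.comp MonoidAlgebra.singleOneRingHom
    let mg : MonoidAlgebra L (Multiplicative M) →+* MonoidAlgebra F (Multiplicative M) :=
      MonoidAlgebra.mapRingHom (Multiplicative M) g
    let χ : Multiplicative M →* F := (π : MonoidAlgebra L (Multiplicative M) →* F).comp (MonoidAlgebra.of L _)
    let ev : MonoidAlgebra F (Multiplicative M) →+* F := (MonoidAlgebra.lift F F (Multiplicative M) χ).toRingHom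
    have hev : ev.comp mg = π := by
      refine MonoidAlgebra.ringHom_ext (fun l => ?_) (fun m => ?_)
      · simp [ev, mg, g, χ, MonoidAlgebra.singleOneRingHom, ← map_mul, MonoidAlgebra.single_mul_single]
      · simp [ev, mg, g, χ, ← map_mul, MonoidAlgebra.single_mul_single]
    let t := z.base ((Spec.map (CommRingCat.ofHom g)).base (IsLocalRing.closedPoint F))
    obtain ⟨σ, hσ⟩ : ∃ σ : Spec (CommRingCat.of F) ⟶ Spec (Z.residueField t),
        σ ≫ Z.fromSpecResidueField t = Spec.map (CommRingCat.ofHom g) ≫ z := by
      obtain ⟨⟨t', φ⟩, he⟩ : ∃ p, (Scheme.SpecToEquivOfField F Z).symm p = Spec.map (CommRingCat.ofHom g) ≫ z :=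
        ⟨_, (Scheme.SpecToEquivOfField F Z).symm_apply_apply _⟩
      have he' : Spec.map φ ≫ Z.fromSpecResidueField t' = Spec.map (CommRingCat.ofHom g) ≫ z := he
      obtain rfl : t' = t := by
        have := congrArg (fun f : Spec (CommRingCat.of F) ⟶ Z => f.base (IsLocalRing.closedPoint F)) he'
        simpa [t, Scheme.fromSpecResidueField_apply] using this
      exact ⟨Spec.map φ, he'⟩
    have hsq : ∀ c : Spec (CommRingCat.of (MonoidAlgebra L (Multiplicative M))) ⟶ Y,
        c ≫ q = Spec.map (CommRingCat.ofHom MonoidAlgebra.singleOneRingHom) ≫ z →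
        (Spec.map (CommRingCat.ofHom mg) ≫ c) ≫ q =
          (Spec.map (CommRingCat.ofHom MonoidAlgebra.singleOneRingHom) ≫ σ) ≫ Z.fromSpecResidueField t := by
      intro c hc
      rw [Category.assoc, hc, Category.assoc, hσ, ← Spec.map_comp_assoc, ← Spec.map_comp_assoc]
      congr 2
      ext l
      simp [mg]
    haveI := hsep t
    have heq := eq_of_levels_separated hM (pullback.snd q (Z.fromSpecResidueField t))
      (pullback.lift _ _ (hsq a ha)) (pullback.lift _ _ (hsq b hb))
      (by rw [pullback.lift_snd, pullback.lift_snd]) fun n hn => by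
        apply pullback.hom_ext
        · have hcomm : CommRingCat.ofHom mg ≫ CommRingCat.ofHom (levelMap M F n) =
              CommRingCat.ofHom (levelMap M L n) ≫ CommRingCat.ofHom (MonoidAlgebra.mapRingHom (Level M n) g) := by
            refine CommRingCat.hom_ext (MonoidAlgebra.ringHom_ext (fun l => ?_) (fun m => ?_)) <;> simp [mg]
          simp only [Category.assoc, pullback.lift_fst]
          rw [← Spec.map_comp_assoc, ← Spec.map_comp_assoc, hcomm, Spec.map_comp, Category.assoc, Category.assoc, h n hn]
        · simp only [Category.assoc, pullback.lift_snd]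
    have heq' := congrArg (· ≫ pullback.fst q (Z.fromSpecResidueField t)) heq
    simp only [pullback.lift_fst] at heq'
    have hP : Spec.map (CommRingCat.ofHom π) ≫ a = Spec.map (CommRingCat.ofHom π) ≫ b := by
      rw [← hev, CommRingCat.ofHom_comp, Spec.map_comp, Category.assoc, Category.assoc, heq']
    let l : Spec (CommRingCat.of F) ⟶ pullback (pullback.lift a b hab) (pullback.diagonal q) :=
      pullback.lift (Spec.map (CommRingCat.ofHom π)) (Spec.map (CommRingCat.ofHom π) ≫ a) (by
        apply pullback.hom_ext
        · rw [Category.assoc, Category.assoc, pullback.lift_fst, pullback.diagonal_fst, Category.comp_id]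
        · rw [Category.assoc, Category.assoc, pullback.lift_snd, pullback.diagonal_snd, Category.comp_id]
          exact hP.symm)
    refine ⟨l.base (IsLocalRing.closedPoint F), ?_⟩
    rw [← Scheme.Hom.comp_apply, pullback.lift_fst, hπ]
    exact Scheme.fromSpecResidueField_apply P _
  haveI : IsImmersion e := MorphismProperty.pullback_fst (P := @IsImmersion) _ _ inferInstance
  haveI : IsClosedImmersion e := .of_isPreimmersion e (by
    rw [Set.eq_univ_of_forall hall]
    exact isClosed_univ)
  haveI : IsIso e := isIso_of_levels hM e fun n hn => ⟨pullback.lift _ (Spec.map (CommRingCat.ofHom (levelMap M L n)) ≫ a) (by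
    apply pullback.hom_ext
    · rw [Category.assoc, Category.assoc, pullback.lift_fst, pullback.diagonal_fst, Category.comp_id]
    · rw [Category.assoc, Category.assoc, pullback.lift_snd, pullback.diagonal_snd, Category.comp_id]
      exact (h n hn).symm), pullback.lift_fst _ _ _⟩
  have hc := pullback.condition (f := pullback.lift a b hab) (g := pullback.diagonal q)
  have h1 : e ≫ a = pullback.snd _ _ := (congrArg (e ≫ ·) (pullback.lift_fst a b hab)).symm.trans (by
    rw [← Category.assoc, hc, Category.assoc, pullback.diagonal_fst, Category.comp_id])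
  have h2 : e ≫ b = pullback.snd _ _ := (congrArg (e ≫ ·) (pullback.lift_snd a b hab)).symm.trans (by
    rw [← Category.assoc, hc, Category.assoc, pullback.diagonal_snd, Category.comp_id])
  exact (cancel_epi e).mp (h1.trans h2.symm)

end GrothLib.CentLoc14
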