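import Groth.Agent.Lib.CentLoc14.Local
import Groth.Agent.Lib.CentLoc14.Torsion
import Groth.Agent.Lib.CentLoc14.EtaleChart
import Groth.Agent.Lib.DiagGrp.ActionTrivial
import Mathlib.AlgebraicGeometry.Morphisms.FiniteType
import Mathlib.RingTheory.Filtration
import Mathlib.RingTheory.Flat.FaithfullyFlat.Algebra

/-!
An action of a group of multiplicative type trivial on a fibre is trivial on the local rings at the points of
that fibre.
-/

universe u

open CategoryTheory MonoidalCategory CartesianMonoidalCategory MonObj GrpObj AlgebraicGeometry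
open CategoryTheory.Limits

namespace GrothLib.CentLoc14

open GrothLib.DiagGrp

/-- Precomposing characters with a homomorphism. -/
def comapAction {S X : Scheme.{u}} {q : X ⟶ S} {G G' : Type} [CommMonoid G] [CommMonoid G'] (A : CharAction q G)
    (π : G →* G') : CharAction q G' where
  op C _ χ x := A.op C (χ.comp π) x
  op_over C _ χ x := A.op_over C _ x
  op_nat C C' _ _ h χ x := A.op_nat C C' h (χ.comp π) x
  op_one C _ x := A.op_one C x
  op_mul C _ χ χ' x := A.op_mul C (χ.comp π) (χ'.comp π) x

/-- An operation of a finitely generated character group trivial on a fibre is trivial on the local ring at a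
point of that fibre. -/
theorem op_eq_of_local_fg {S X : Scheme.{u}} {q : X ⟶ S}
    (hsep : ∀ t : S, IsSeparated (pullback.snd q (S.fromSpecResidueField t)))
    {M : Type} [AddCommGroup M] (hM : AddGroup.FG M) (A : CharAction q (Multiplicative M))
    {R B : Type u} [CommRing R] [CommRing B] [Algebra R B] (w : Spec (CommRingCat.of R) ⟶ S) [Mono w]
    (j : Spec (CommRingCat.of B) ⟶ X) [IsOpenImmersion j]
    (hj : j ≫ q = Spec.map (CommRingCat.ofHom (algebraMap R B)) ≫ w) (Q : Ideal B) [Q.IsPrime]
    (h0 : ∀ (C : Type u) [CommRing C] (σ : R →+* C), (∀ r ∈ Q.comap (algebraMap R B), σ r = 0) →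
      (∀ r, r ∉ Q.comap (algebraMap R B) → IsUnit (σ r)) → ∀ (χ : Multiplicative M →* C)
        (x : Spec (CommRingCat.of C) ⟶ X), x ≫ q = Spec.map (CommRingCat.ofHom σ) ≫ w → A.op C χ x = x)
    {E : Type u} [CommRing E] (g : Localization.AtPrime Q →+* E)
    (hfin : Algebra.FiniteType R B ∨
      ∀ l, (∀ k : ℕ, l ∈ ((Q.comap (algebraMap R B)) ^ k).map (algebraMap R (Localization.AtPrime Q))) → g l = 0)
    (χ : Multiplicative M →* E) :
    A.op E χ (Spec.map (CommRingCat.ofHom (g.comp (algebraMap B (Localization.AtPrime Q)))) ≫ j) =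
      Spec.map (CommRingCat.ofHom (g.comp (algebraMap B (Localization.AtPrime Q)))) ≫ j := by
  let c : E →+* MonoidAlgebra E (Multiplicative M) := MonoidAlgebra.singleOneRingHom
  let y := Spec.map (CommRingCat.ofHom (g.comp (algebraMap B (Localization.AtPrime Q)))) ≫ j
  have key : A.op _ (MonoidAlgebra.of E (Multiplicative M)) (Spec.map (CommRingCat.ofHom c) ≫ y) =
      Spec.map (CommRingCat.ofHom c) ≫ y := by
    refine eq_of_levels hM q hsep (y ≫ q) _ _ ((A.op_over _ _ _).trans (Category.assoc _ _ _))
      (Category.assoc _ _ _) fun n hn => ?_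
    haveI := finite_level hM hn
    let g' : Localization.AtPrime Q →+* MonoidAlgebra E (Level M n) := MonoidAlgebra.singleOneRingHom.comp g
    have h1 := op_eq_of_local (comapAction A (levelProj M n)) w j hj Q
      (fun C _ σ h h' ψ x hx => h0 C σ h h' _ x hx) g'
      (hfin.imp_right fun hk l hl => by simp [g', hk l hl]) (MonoidAlgebra.of E (Level M n))
    have hχ : ((levelMap M E n : MonoidAlgebra E (Multiplicative M) →+* _) :
        MonoidAlgebra E (Multiplicative M) →* MonoidAlgebra E (Level M n)).comp (MonoidAlgebra.of E (Multiplicative M)) =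
        (MonoidAlgebra.of E (Level M n)).comp (levelProj M n) := MonoidHom.ext fun m => by simp
    have hg : (levelMap M E n).comp c = MonoidAlgebra.singleOneRingHom := RingHom.ext fun e => by simp [c]
    have hy : Spec.map (CommRingCat.ofHom (levelMap M E n)) ≫ Spec.map (CommRingCat.ofHom c) ≫ y =
        Spec.map (CommRingCat.ofHom (g'.comp (algebraMap B (Localization.AtPrime Q)))) ≫ j := by
      rw [← Category.assoc, ← Category.assoc, ← Spec.map_comp, ← Spec.map_comp, ← CommRingCat.ofHom_comp,
        ← CommRingCat.ofHom_comp, hg]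
    rw [← A.op_nat, hχ, hy]
    exact h1
  let ev : MonoidAlgebra E (Multiplicative M) →+* E := (MonoidAlgebra.lift E E (Multiplicative M) χ).toRingHom
  have hev : ev.comp c = RingHom.id E := RingHom.ext fun e => by simp [ev, c]
  have hχ : (ev : MonoidAlgebra E (Multiplicative M) →* E).comp (MonoidAlgebra.of E (Multiplicative M)) = χ :=
    MonoidHom.ext fun m => by simp [ev]
  have hy : Spec.map (CommRingCat.ofHom ev) ≫ Spec.map (CommRingCat.ofHom c) ≫ y = y := by
    rw [← Category.assoc, ← Spec.map_comp, ← CommRingCat.ofHom_comp, hev, CommRingCat.ofHom_id, Spec.map_id,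
      Category.id_comp]
  have h := congrArg (Spec.map (CommRingCat.ofHom ev) ≫ ·) key
  simp only [← A.op_nat] at h
  rwa [hχ, hy] at h

/-- A field-valued point factors through the residue field of its image. -/
theorem exists_factor_residue {S : Scheme.{u}} {F : Type u} [Field F] (z : Spec (CommRingCat.of F) ⟶ S) (s : S)
    (hs : z.base (IsLocalRing.closedPoint F) = s) :
    ∃ σ : Spec (CommRingCat.of F) ⟶ Spec (S.residueField s), σ ≫ S.fromSpecResidueField s = z := by
  obtain ⟨⟨t', φ⟩, he⟩ : ∃ p, (Scheme.SpecToEquivOfField F S).symm p = z :=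
    ⟨_, (Scheme.SpecToEquivOfField F S).symm_apply_apply _⟩
  have he' : Spec.map φ ≫ S.fromSpecResidueField t' = z := he
  obtain rfl : t' = s := by
    rw [← hs, ← he', Scheme.Hom.comp_apply, Scheme.fromSpecResidueField_apply]
  exact ⟨Spec.map φ, he'⟩

variable {S : Scheme.{u}} {H X : Over S} [GrpObj H] (a : AlgGrp.Action H X)

/-- The action is trivial on the fibre at `s`. -/
def TrivialAt (s : S) : Prop :=
  ∀ (Y : Over S) (σ : Y.left ⟶ Spec (S.residueField s)), σ ≫ S.fromSpecResidueField s = Y.hom →
    ∀ (h : Y ⟶ H) (x : Y ⟶ X), lift h x ≫ a.act = x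

variable {R' : Type u} [CommRing R'] (f : Spec (CommRingCat.of R') ⟶ S) {M : Type} [AddCommGroup M]
  (e : Grp.mk (Red.bc f H) ≅ Grp.mk (Red.DS (Spec (CommRingCat.of R')) M))

theorem isSeparated_fibre_bc (hsep : ∀ t : S, IsSeparated (pullback.snd X.hom (S.fromSpecResidueField t)))
    (t : ↥(Spec (CommRingCat.of R'))) :
    IsSeparated (pullback.snd (pullback.snd X.hom f) ((Spec (CommRingCat.of R')).fromSpecResidueField t)) := by
  obtain ⟨σ, hσ⟩ := exists_factor_residue ((Spec (CommRingCat.of R')).fromSpecResidueField t ≫ f) (f.base t)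
    (congrArg f.base (Scheme.fromSpecResidueField_apply t _))
  haveI := hsep (f.base t)
  rw [← pullbackLeftPullbackSndIso_hom_snd, MorphismProperty.cancel_left_of_respectsIso @IsSeparated]
  have key : ∀ {K : Scheme.{u}} (σ : K ⟶ Spec (S.residueField (f.base t))),
      IsSeparated (pullback.snd X.hom (σ ≫ S.fromSpecResidueField (f.base t))) := fun {K} σ => by
    rw [← MorphismProperty.cancel_left_of_respectsIso @IsSeparated
      (pullbackLeftPullbackSndIso X.hom (S.fromSpecResidueField (f.base t)) σ).hom, pullbackLeftPullbackSndIso_hom_snd]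
    infer_instance
  have key' : ∀ {k : Spec ((Spec (CommRingCat.of R')).residueField t) ⟶ S}, σ ≫ S.fromSpecResidueField (f.base t) = k →
      IsSeparated (pullback.snd X.hom k) := by
    rintro _ rfl
    exact key σ
  exact key' hσ

include e in
/-- An action trivial on the fibre at `s` is trivial on a local ring over it, in a chart. -/
theorem op_trivial_chart (hsep : ∀ t : S, IsSeparated (pullback.snd X.hom (S.fromSpecResidueField t)))
    (hM : AddGroup.FG M) (s : S) (h0 : TrivialAt a s) {E : Type u} [CommRing E] [IsLocalRing E]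
    (x : Spec (CommRingCat.of E) ⟶ pullback X.hom f)
    (hs : f.base ((pullback.snd X.hom f).base (x.base (IsLocalRing.closedPoint E))) = s)
    (hfin : LocallyOfFiniteType X.hom ∨ IsNoetherianRing E) {C : Type u} [CommRing C] (k : E →+* C)
    (χ : Multiplicative M →* C) :
    (charAction f e a).op C χ (Spec.map (CommRingCat.ofHom k) ≫ x) = Spec.map (CommRingCat.ofHom k) ≫ x := by
  obtain ⟨V, hV, hxV, -⟩ := exists_isAffineOpen_mem_and_subset
    (show x.base (IsLocalRing.closedPoint E) ∈ (⊤ : (pullback X.hom f).Opens) from TopologicalSpace.Opens.mem_top _)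
  set j := hV.fromSpec
  have hr : Set.range x.base ⊆ Set.range j.base := by
    rintro _ ⟨P, rfl⟩
    rw [hV.range_fromSpec]
    exact ((IsLocalRing.specializes_closedPoint P).map x.continuous).mem_open V.isOpen hxV
  set φ : Γ(pullback X.hom f, V) →+* E := (Spec.preimage (IsOpenImmersion.lift j x hr)).hom with hφ
  have hφj : Spec.map (CommRingCat.ofHom φ) ≫ j = x := by
    rw [hφ, CommRingCat.ofHom_hom, Spec.map_preimage, IsOpenImmersion.lift_fac]
  letI : Algebra R' Γ(pullback X.hom f, V) := (Spec.preimage (j ≫ pullback.snd X.hom f)).hom.toAlgebra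
  have hj : j ≫ pullback.snd X.hom f =
      Spec.map (CommRingCat.ofHom (algebraMap R' Γ(pullback X.hom f, V))) ≫ 𝟙 (Spec (CommRingCat.of R')) := by
    rw [Category.comp_id]
    exact (Spec.map_preimage _).symm
  let Q : Ideal Γ(pullback X.hom f, V) := (IsLocalRing.maximalIdeal E).comap φ
  let g : Localization.AtPrime Q →+* E := IsLocalization.lift (M := Q.primeCompl) (g := φ)
    fun y => IsLocalRing.notMem_maximalIdeal.mp y.2
  have hg : g.comp (algebraMap Γ(pullback X.hom f, V) (Localization.AtPrime Q)) = φ := IsLocalization.lift_comp _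
  let P : PrimeSpectrum R' :=
    ⟨Q.comap (algebraMap R' Γ(pullback X.hom f, V)), Ideal.IsPrime.comap _⟩
  have hP : f.base (P : ↥(Spec (CommRingCat.of R'))) = s := by
    rw [← hs, ← hφj, Scheme.Hom.comp_apply, ← Scheme.Hom.comp_apply j, hj, Category.comp_id]
    rfl
  have h0' : ∀ (D : Type u) [CommRing D] (σ : R' →+* D), (∀ r ∈ P.asIdeal, σ r = 0) →
      (∀ r, r ∉ P.asIdeal → IsUnit (σ r)) → ∀ (ψ : Multiplicative M →* D)
        (z : Spec (CommRingCat.of D) ⟶ pullback X.hom f),
        z ≫ pullback.snd X.hom f = Spec.map (CommRingCat.ofHom σ) ≫ 𝟙 (Spec (CommRingCat.of R')) →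
        (charAction f e a).op D ψ z = z := by
    intro D _ σ h1 h2 ψ z hz
    let σ₁ : P.asIdeal.ResidueField →+* D := Ideal.ResidueField.lift P.asIdeal σ (fun r hr => h1 r hr) h2
    let m : Spec (CommRingCat.of P.asIdeal.ResidueField) ⟶ Spec (CommRingCat.of R') :=
      Spec.map (CommRingCat.ofHom (algebraMap R' P.asIdeal.ResidueField))
    obtain ⟨ρ, hρ⟩ := exists_factor_residue (m ≫ f) s (by
      rw [Scheme.Hom.comp_apply, ← hP]
      refine congrArg f.base (PrimeSpectrum.ext ?_)
      change Ideal.comap (algebraMap R' P.asIdeal.ResidueField) (IsLocalRing.maximalIdeal _) = P.asIdeal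
      rw [IsLocalRing.maximalIdeal_eq_bot, ← RingHom.ker_eq_comap_bot, Ideal.ker_algebraMap_residueField])
    apply pullback.hom_ext
    · refine (pullback.lift_fst _ _ _).trans ?_
      exact congrArg Over.Hom.left (h0 ((Over.map f).obj (Over.mk (z ≫ pullback.snd X.hom f)))
        (Spec.map (CommRingCat.ofHom σ₁) ≫ ρ) (by
          change _ = (z ≫ pullback.snd X.hom f) ≫ f
          rw [Category.assoc, hρ, hz, Category.comp_id, ← Category.assoc, ← Spec.map_comp, ← CommRingCat.ofHom_comp]
          congr 3
          exact RingHom.ext fun r => Ideal.ResidueField.lift_algebraMap P.asIdeal σ (fun r hr => h1 r hr) h2 r)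
        (ptG f e _ ψ) (ptX f _ z rfl))
    · exact (charAction f e a).op_over D ψ z
  have key := op_eq_of_local_fg (isSeparated_fibre_bc f hsep) hM (charAction f e a) (𝟙 (Spec (CommRingCat.of R'))) j hj Q h0'
    (k.comp g) ?_ χ
  · rwa [RingHom.comp_assoc, hg, CommRingCat.ofHom_comp, Spec.map_comp, Category.assoc, hφj] at key
  rcases hfin with hl | hn
  · left
    haveI := hl
    have h : LocallyOfFiniteType (j ≫ pullback.snd X.hom f) := inferInstance
    rw [hj, Category.comp_id, HasRingHomProperty.Spec_iff (P := @LocallyOfFiniteType), CommRingCat.hom_ofHom,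
      RingHom.finiteType_algebraMap] at h
    exact h
  · right
    intro l hl
    suffices g l = 0 by rw [RingHom.comp_apply, this, map_zero]
    rw [← Ideal.mem_bot, ← Ideal.iInf_pow_eq_bot_of_isLocalRing (IsLocalRing.maximalIdeal E)
      (IsLocalRing.maximalIdeal.isMaximal E).ne_top, Ideal.mem_iInf]
    intro n
    have h1 := Ideal.mem_map_of_mem g (hl n)
    rw [Ideal.map_map, Ideal.map_pow] at h1
    refine Ideal.pow_right_mono (Ideal.map_le_iff_le_comap.mpr fun r hr => ?_) n h1
    rw [Ideal.mem_comap, IsScalarTower.algebraMap_eq R' Γ(pullback X.hom f, V), ← RingHom.comp_assoc, hg]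
    exact hr

include e in
/-- From triviality of the operation at a point to triviality of the action. -/
theorem act_eq_of_op {C : Type u} [CommRing C] (z : Spec (CommRingCat.of C) ⟶ pullback X.hom f)
    (hop : ∀ χ : Multiplicative M →* C, (charAction f e a).op C χ z = z) {Y : Over S}
    (g : (Over.map f).obj (Over.mk (z ≫ pullback.snd X.hom f)) ⟶ Y) (h : Y ⟶ H) (y : Y ⟶ X)
    (hy : g.left ≫ y.left = z ≫ pullback.fst X.hom f) :
    g.left ≫ (lift h y ≫ a.act).left = g.left ≫ y.left := by
  obtain ⟨χ, hχ⟩ := exists_ptG_eq f e (z ≫ pullback.snd X.hom f) (g ≫ h)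
  have hx : g ≫ y = ptX f _ z rfl := Over.OverMorphism.ext hy
  have h1 : (lift (ptG f e (z ≫ pullback.snd X.hom f) χ) (ptX f _ z rfl) ≫ a.act).left = z ≫ pullback.fst X.hom f :=
    (pullback.lift_fst _ _ _).symm.trans (congrArg (· ≫ pullback.fst X.hom f) (hop χ))
  rw [hχ, ← hx, ← comp_lift, Category.assoc] at h1
  exact h1.trans hy.symm

/-- An action trivial on the fibre at `s` is trivial on the points through a local ring over `s`. -/
theorem act_trivial_local (hH : HasChartsFpqc fgM H)
    (hsep : ∀ t : S, IsSeparated (pullback.snd X.hom (S.fromSpecResidueField t))) (s : S) (h0 : TrivialAt a s)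
    {E : Type u} [CommRing E] [IsLocalRing E] (x : Spec (CommRingCat.of E) ⟶ X.left)
    (hs : X.hom.base (x.base (IsLocalRing.closedPoint E)) = s)
    (hfin : LocallyOfFiniteType X.hom ∨ IsNoetherianRing E)
    (Y : Over S) (τ : Y.left ⟶ Spec (CommRingCat.of E)) (h : Y ⟶ H) (y : Y ⟶ X) (hy : y.left = τ ≫ x) :
    lift h y ≫ a.act = y := by
  obtain ⟨R₁, f₁, hf, ⟨p₀, hp₀⟩, M, inst, hM, ⟨e⟩⟩ := exists_etale_chart hH s
  let f : Spec (CommRingCat.of (R₁ : Type u)) ⟶ S := f₁
  letI := inst
  haveI : Etale f := hf
  let q := x ≫ X.hom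
  obtain ⟨P₀, hP₁, hP₂⟩ := Scheme.Pullback.exists_preimage_pullback (f := q) (g := f)
    (IsLocalRing.closedPoint E) p₀ (by rw [Scheme.Hom.comp_apply, hs, hp₀])
  obtain ⟨U, hU, hPU, -⟩ := exists_isAffineOpen_mem_and_subset
    (show P₀ ∈ (⊤ : (pullback q f).Opens) from TopologicalSpace.Opens.mem_top _)
  set j := hU.fromSpec
  let B := Γ(pullback q f, U)
  letI : Algebra E B := (Spec.preimage (j ≫ pullback.fst q f)).hom.toAlgebra
  have hjB : j ≫ pullback.fst q f = Spec.map (CommRingCat.ofHom (algebraMap E B)) :=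
    (Spec.map_preimage _).symm
  haveI : Algebra.Etale E B := by
    haveI : IsOpenImmersion j := hU.isOpenImmersion_fromSpec
    have h1 : Etale (j ≫ pullback.fst q f) := inferInstance
    rw [hjB, HasRingHomProperty.Spec_iff (P := @Etale), CommRingCat.hom_ofHom, RingHom.etale_algebraMap] at h1
    exact h1
  obtain ⟨z, hz⟩ : P₀ ∈ Set.range j.base := by rw [hU.range_fromSpec]; exact hPU
  let E' := Localization.AtPrime (z : PrimeSpectrum B).asIdeal
  haveI : Module.Flat E E' := Module.Flat.trans E B E'
  have hzm : (z : PrimeSpectrum B).asIdeal.comap (algebraMap E B) = IsLocalRing.maximalIdeal E := by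
    have h1 := congrArg (fun φ : Spec (CommRingCat.of B) ⟶ Spec (CommRingCat.of E) => φ.base z) hjB
    simp only [Scheme.Hom.comp_apply, hz, hP₁] at h1
    exact (congrArg PrimeSpectrum.asIdeal h1).symm
  haveI : IsLocalHom (algebraMap E E') := ⟨fun r hr => by
    rw [IsScalarTower.algebraMap_apply E B E', IsLocalization.AtPrime.isUnit_to_map_iff E'
      (z : PrimeSpectrum B).asIdeal, Ideal.mem_primeCompl_iff] at hr
    rw [← IsLocalRing.notMem_maximalIdeal, ← hzm]
    exact hr⟩
  haveI : Module.FaithfullyFlat E E' := Module.FaithfullyFlat.of_flat_of_isLocalHom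
  let π : Spec (CommRingCat.of E') ⟶ Spec (CommRingCat.of E) := Spec.map (CommRingCat.ofHom (algebraMap E E'))
  haveI : Flat π := by
    rw [HasRingHomProperty.Spec_iff (P := @Flat)]
    exact RingHom.flat_algebraMap_iff.mpr inferInstance
  haveI : Surjective π := ⟨PrimeSpectrum.comap_surjective_of_faithfullyFlat (A := E) (B := E')⟩
  haveI : Epi (pullback.fst τ π) := Flat.epi_of_flat_of_surjective _
  -- the point of the chart
  let b : Spec (CommRingCat.of E') ⟶ Spec (CommRingCat.of B) := Spec.map (CommRingCat.ofHom (algebraMap B E'))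
  let x' : Spec (CommRingCat.of E') ⟶ pullback X.hom f :=
    pullback.lift (π ≫ x) (b ≫ j ≫ pullback.snd q f) (by
      rw [Category.assoc, Category.assoc, Category.assoc, ← pullback.condition, ← Category.assoc j, hjB,
        ← Category.assoc b, ← Spec.map_comp, ← CommRingCat.ofHom_comp, ← IsScalarTower.algebraMap_eq])
  have hs' : f.base ((pullback.snd X.hom f).base (x'.base (IsLocalRing.closedPoint E'))) = s := by
    have hb : b.base (IsLocalRing.closedPoint E') = z := PrimeSpectrum.ext (IsLocalization.AtPrime.comap_maximalIdeal E' _)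
    rw [← Scheme.Hom.comp_apply x', pullback.lift_snd, Scheme.Hom.comp_apply, Scheme.Hom.comp_apply, hb, hz, hP₂]
    exact hp₀
  apply Over.OverMorphism.ext
  rw [← cancel_epi (pullback.fst τ π)]
  refine Scheme.Cover.hom_ext (pullback τ π).affineCover _ _ fun i => ?_
  set c := (pullback τ π).affineCover.f i
  let k : E' →+* _ := (Spec.preimage (c ≫ pullback.snd τ π)).hom
  have hk : Spec.map (CommRingCat.ofHom k) = c ≫ pullback.snd τ π := by
    rw [CommRingCat.ofHom_hom, Spec.map_preimage]
    rfl
  have hx : Spec.map (CommRingCat.ofHom k) ≫ x' ≫ pullback.fst X.hom f = (c ≫ pullback.fst τ π) ≫ τ ≫ x := by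
    rw [pullback.lift_fst, hk]
    exact ((Category.assoc c _ _).trans (congrArg (c ≫ ·) (pullback.condition_assoc x).symm)).trans
      (Category.assoc c _ _).symm
  let g : (Over.map f).obj (Over.mk ((Spec.map (CommRingCat.ofHom k) ≫ x') ≫ pullback.snd X.hom f)) ⟶ Y :=
    Over.homMk (c ≫ pullback.fst τ π) (by
      change (c ≫ pullback.fst τ π) ≫ Y.hom = ((Spec.map (CommRingCat.ofHom k) ≫ x') ≫ pullback.snd X.hom f) ≫ f
      rw [← Over.w y, hy, ← Category.assoc (c ≫ _), ← hx]
      exact (((Category.assoc _ _ _).trans (congrArg (Spec.map (CommRingCat.ofHom k) ≫ ·)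
        (((Category.assoc _ _ _).trans (congrArg (x' ≫ ·) pullback.condition)).trans
          (Category.assoc _ _ _).symm))).trans (Category.assoc _ _ _).symm).trans
        (congrArg (· ≫ f) (Category.assoc _ _ _).symm))
  have h2 := act_eq_of_op a f e (Spec.map (CommRingCat.ofHom k) ≫ x')
    (op_trivial_chart a f e hsep hM s h0 x' hs' (hfin.imp_right fun hn => by
      haveI := hn
      haveI : IsNoetherianRing B := Algebra.FiniteType.isNoetherianRing E B
      exact IsLocalization.isNoetherianRing (z : PrimeSpectrum B).asIdeal.primeCompl E' inferInstance) k)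
    g h y (by
      change (c ≫ pullback.fst τ π) ≫ y.left = _
      rw [hy, Category.assoc (Spec.map (CommRingCat.ofHom k)), hx])
  exact ((Category.assoc _ _ _).symm.trans h2).trans (Category.assoc _ _ _)

end GrothLib.CentLoc14
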