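import Groth.Agent.Lib.CentLoc14.Open
import Groth.Agent.Lib.DiagGrp.Homs
import Groth.Agent.Lib.Rigidity.SmoothGroup

/-!
A homomorphism from a group of multiplicative type which is central on a connected fibre is central nearby.
-/

universe u

open CategoryTheory MonoidalCategory CartesianMonoidalCategory MonObj GrpObj AlgebraicGeometry
open CategoryTheory.Limits

namespace GrothLib.CentLoc14

open GrothLib.DiagGrp

set_option backward.isDefEq.respectTransparency false in
theorem bcPoint_left_fst {S W : Scheme.{u}} (f : W ⟶ S) (X : Over S) (T : Over W) (g : (Over.map f).obj T ⟶ X) :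
    (bcPoint f X T g).left ≫ pullback.fst X.hom f = g.left := by
  simp [bcPoint, Adjunction.homEquiv_unit, Over.mapPullbackAdj]

/-- In a connected group over a field the products of two points of a nonempty open form a flat cover. -/
theorem flat_surjective_mul_opens {k : Type u} [Field k] (K : Over (Spec (CommRingCat.of k))) [GrpObj K]
    [LocallyOfFiniteType K.hom] [ConnectedSpace K.left] (W : K.left.Opens) (hW : (W : Set K.left).Nonempty) :
    Flat ((((fst K K).left ⁻¹ᵁ W) ⊓ ((snd K K).left ⁻¹ᵁ W)).ι ≫ μ[K].left) ∧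
      Surjective ((((fst K K).left ⁻¹ᵁ W) ⊓ ((snd K K).left ⁻¹ᵁ W)).ι ≫ μ[K].left) := by
  haveI : Flat K.hom := flat_of_field K.hom
  haveI : Flat μ[K].left := GrothLib.GrpSchField.mul_property (G := K) (P := @Flat) inferInstance
  haveI := GrothLib.Rigidity.irreducibleSpace_of_connected K
  refine ⟨inferInstance, ⟨fun x => ?_⟩⟩
  obtain ⟨q, hq₁, hq₂, hqx⟩ :=
    GrothLib.GrpSchField.exists_mul_mem_of_dense K W.isOpen (W.isOpen.dense hW) (W.isOpen.dense hW) x
  exact ⟨⟨q, hq₁, hq₂⟩, hqx⟩

variable {S : Scheme.{u}} {H G : Over S} [GrpObj H] [GrpObj G] (u : H ⟶ G) [IsMonHom u]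

/-- A connected fibre on a nonempty open of which the image is centralised is centralised. -/
theorem central_fibre [LocallyOfFiniteType G.hom] (t : S)
    (hconn : ConnectedSpace ↥(pullback G.hom (S.fromSpecResidueField t))) (W : G.left.Opens)
    (hne : η[G].left.base t ∈ W)
    (hW : ∀ (Y : Over S) (h : Y ⟶ H) (y : Y ⟶ G), Set.range y.left.base ⊆ (W : Set G.left) →
      lift h y ≫ (conjAction u).act = y) : TrivialAt (conjAction u) t := by
  intro Y σ hσ h y
  let e := S.fromSpecResidueField t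
  let K := Red.bc e G
  haveI : LocallyOfFiniteType K.hom := inferInstanceAs (LocallyOfFiniteType (pullback.snd G.hom e))
  haveI : ConnectedSpace K.left := hconn
  let W' : K.left.Opens := pullback.fst G.hom e ⁻¹ᵁ W
  have hW' : (W' : Set K.left).Nonempty := by
    obtain ⟨p, hp, -⟩ := Scheme.Pullback.exists_preimage_pullback (f := G.hom) (g := e) (η[G].left.base t)
      (IsLocalRing.closedPoint (S.residueField t)) (by
        rw [← Scheme.Hom.comp_apply, Over.w η[G]]
        exact (Scheme.fromSpecResidueField_apply t _).symm)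
    exact ⟨p, show pullback.fst G.hom e p ∈ W by rw [hp]; exact hne⟩
  let Q := ((fst K K).left ⁻¹ᵁ W') ⊓ ((snd K K).left ⁻¹ᵁ W')
  obtain ⟨hflat, hsurj⟩ := flat_surjective_mul_opens (k := S.residueField t) K W' hW'
  let k₀ : (Over.map e).obj (Over.mk σ) ⟶ Y := Over.homMk (𝟙 Y.left) (by
    change 𝟙 _ ≫ Y.hom = σ ≫ e
    rw [Category.id_comp, hσ])
  let y' : Over.mk σ ⟶ K := bcPoint e G (Over.mk σ) (k₀ ≫ y)
  let q : (Q : Scheme.{u}) ⟶ K.left := Q.ι ≫ μ[K].left
  haveI : Flat q := hflat
  haveI : Surjective q := hsurj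
  haveI : Epi (pullback.fst y'.left q) := Flat.epi_of_flat_of_surjective _
  let r : Over.mk (pullback.fst y'.left q ≫ σ) ⟶ Over.mk σ := Over.homMk (pullback.fst y'.left q) rfl
  let z : Over.mk (pullback.fst y'.left q ≫ σ) ⟶ K ⊗ K := Over.homMk (pullback.snd y'.left q ≫ Q.ι) (by
    change (pullback.snd y'.left q ≫ Q.ι) ≫ (K ⊗ K).hom = pullback.fst y'.left q ≫ σ
    rw [← Over.w μ[K], Category.assoc, ← Category.assoc Q.ι, ← pullback.condition_assoc, Over.w y']
    rfl)
  have hz : z ≫ μ[K] = r ≫ y' := Over.OverMorphism.ext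
    ((Category.assoc _ _ _).trans (pullback.condition (f := y'.left) (g := q)).symm)
  let y₁ := (bcPointMulEquiv e G _).symm (z ≫ fst K K)
  let y₂ := (bcPointMulEquiv e G _).symm (z ≫ snd K K)
  have hmul : (Over.map e).map r ≫ k₀ ≫ y = y₁ * y₂ := by
    apply (bcPointMulEquiv e G _).injective
    rw [map_mul, MulEquiv.apply_symm_apply, MulEquiv.apply_symm_apply]
    refine (bcPoint_comp e r _).trans (hz.symm.trans ?_)
    rw [← MonObj.comp_mul, Hom.mul_def, lift_fst_snd, Category.id_comp]
  have hrange : ∀ w : Over.mk (pullback.fst y'.left q ≫ σ) ⟶ K,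
      (∀ P, w.left.base P ∈ W') → Set.range ((bcPointMulEquiv e G _).symm w).left.base ⊆ (W : Set G.left) := by
    intro w hw
    have h1 : ((bcPointMulEquiv e G _).symm w).left = w.left ≫ pullback.fst G.hom e := by
      have h2 := bcPoint_left_fst e G _ ((bcPointMulEquiv e G _).symm w)
      rw [show bcPoint e G _ ((bcPointMulEquiv e G _).symm w) = w from (bcPointMulEquiv e G _).apply_symm_apply w] at h2
      exact h2.symm
    rintro _ ⟨P, rfl⟩
    rw [h1, Scheme.Hom.comp_apply]
    exact hw P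
  have hq : ∀ P : ↥(pullback y'.left q), z.left.base P ∈ Q := fun P => ((pullback.snd y'.left q).base P).2
  let h' := (Over.map e).map r ≫ k₀ ≫ h
  have h1 := hW _ h' y₁ (hrange _ fun P => (hq P).1)
  have h2 := hW _ h' y₂ (hrange _ fun P => (hq P).2)
  have h3 : lift h' (y₁ * y₂) ≫ (conjAction u).act = y₁ * y₂ := by
    have e1 := (lift_conj u h' y₁).symm.trans h1
    have e2 := (lift_conj u h' y₂).symm.trans h2
    refine (lift_conj u h' (y₁ * y₂)).trans ?_
    conv_rhs => rw [← e1, ← e2]
    simp only [_root_.mul_assoc, inv_mul_cancel_left]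
  rw [← hmul] at h3
  change lift ((Over.map e).map r ≫ k₀ ≫ h) ((Over.map e).map r ≫ k₀ ≫ y) ≫ (conjAction u).act = _ at h3
  rw [← comp_lift, ← comp_lift, Category.assoc, Category.assoc] at h3
  apply Over.OverMorphism.ext
  rw [← cancel_epi (pullback.fst y'.left q)]
  have h4 := congrArg Over.Hom.left h3
  change pullback.fst y'.left q ≫ 𝟙 _ ≫ _ = pullback.fst y'.left q ≫ 𝟙 _ ≫ _ at h4
  rwa [Category.id_comp, Category.id_comp] at h4

/-- Central on a connected fibre of a group locally of finite type implies central over a neighbourhood. -/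
theorem exists_open_central (hH : HasChartsFpqc fgM H) [LocallyOfFiniteType G.hom]
    (hconn : ∀ t : S, ConnectedSpace ↥(pullback G.hom (S.fromSpecResidueField t))) (s : S)
    (h0 : TrivialAt (conjAction u) s) :
    ∃ U : S.Opens, s ∈ U ∧ ∀ (Y : Over S), Set.range Y.hom.base ⊆ (U : Set S) →
      ∀ (g : Y ⟶ G) (h : Y ⟶ H), g * (h ≫ u) = (h ≫ u) * g := by
  have hsep : ∀ t : S, IsSeparated (pullback.snd G.hom (S.fromSpecResidueField t)) := fun t =>
    GrothLib.GrpSchField.isSeparated (K := S.residueField t) (Red.bc (S.fromSpecResidueField t) G)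
  obtain ⟨W, hsW, hW⟩ := exists_open_fibre_act_trivial (conjAction u) hH hsep s h0
  refine ⟨η[G].left ⁻¹ᵁ W, hsW _ ?_, fun Y hY g h => ?_⟩
  · rw [← Scheme.Hom.comp_apply, Over.w η[G]]; rfl
  suffices hkey : lift h g ≫ (conjAction u).act = g from
    (mul_inv_eq_iff_eq_mul.mp ((lift_conj u h g).symm.trans hkey)).symm
  apply Over.OverMorphism.ext
  refine Scheme.hom_ext_of_forall _ _ fun P => ?_
  have hP : G.hom.base (g.left.base P) ∈ η[G].left ⁻¹ᵁ W := by
    rw [← Scheme.Hom.comp_apply, Over.w g]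
    exact hY ⟨P, rfl⟩
  obtain ⟨V, hPV, hV⟩ := exists_open_act_trivial (conjAction u) hH hsep _
    (central_fibre u _ (hconn _) W hP hW) (g.left.base P) rfl
  refine ⟨g.left ⁻¹ᵁ V, hPV, ?_⟩
  let j : Over.mk ((g.left ⁻¹ᵁ V).ι ≫ Y.hom) ⟶ Y := Over.homMk (g.left ⁻¹ᵁ V).ι rfl
  have h1 := hV _ (j ≫ h) (j ≫ g) (by rintro _ ⟨z, rfl⟩; exact z.2)
  rw [← comp_lift, Category.assoc] at h1
  exact congrArg Over.Hom.left h1

omit [IsMonHom u] in
/-- Centrality of the fibre in terms of the action by conjugation. -/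
theorem trivialAt_conj [IsMonHom u] (s : S)
    (hs : ∀ (X : Over (Spec (S.residueField s))) (g : X ⟶ Red.bc (S.fromSpecResidueField s) G)
      (h : X ⟶ Red.bc (S.fromSpecResidueField s) H),
      g * (h ≫ (Over.pullback (S.fromSpecResidueField s)).map u) =
        (h ≫ (Over.pullback (S.fromSpecResidueField s)).map u) * g) : TrivialAt (conjAction u) s := by
  intro Y σ hσ h g
  refine (lift_conj u h g).trans ?_
  let k : (Over.map (S.fromSpecResidueField s)).obj (Over.mk σ) ≅ Y := Over.isoMk (Iso.refl _) (by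
    change 𝟙 _ ≫ Y.hom = σ ≫ S.fromSpecResidueField s
    rw [Category.id_comp, hσ])
  rw [mul_inv_eq_iff_eq_mul, ← cancel_epi k.hom, MonObj.comp_mul, MonObj.comp_mul, ← Category.assoc]
  apply (bcPointMulEquiv (S.fromSpecResidueField s) G (Over.mk σ)).injective
  rw [map_mul, map_mul]
  change bcPoint _ G _ ((k.hom ≫ h) ≫ u) * _ = _ * bcPoint _ G _ ((k.hom ≫ h) ≫ u)
  rw [bcPoint_comp_right]
  exact (hs _ _ _).symm

end GrothLib.CentLoc14
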