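import Groth.Agent.Lib.DiagGrp.Trivial
import Mathlib.RingTheory.LocalRing.ResidueField.Ideal
import Mathlib.RingTheory.FiniteType
import Mathlib.RingTheory.Nakayama
import Mathlib.RingTheory.IntegralClosure.IsIntegralClosure.Basic

/-!
An operation of a finite character group which is trivial on a fibre is trivial on the local ring at each point
of that fibre.
-/

universe u

open CategoryTheory AlgebraicGeometry

namespace GrothLib.CentLoc14

open GrothLib.DiagGrp

set_option backward.isDefEq.respectTransparency false in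
set_option backward.isDefEq.respectTransparency.types false in
/-- An operation of a finite character group trivial on the fibre at `Q ∩ R` is trivial on the local ring at `Q`,
for an algebra of finite type, or after a map which kills what is infinitely divisible by that prime. -/
theorem op_eq_of_local {S X : Scheme.{u}} {q : X ⟶ S} {G : Type} [CommMonoid G] [Finite G] (A : CharAction q G)
    {R B : Type u} [CommRing R] [CommRing B] [Algebra R B] (w : Spec (CommRingCat.of R) ⟶ S) [Mono w]
    (ι : Spec (CommRingCat.of B) ⟶ X) [IsOpenImmersion ι]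
    (hι : ι ≫ q = Spec.map (CommRingCat.ofHom (algebraMap R B)) ≫ w) (Q : Ideal B) [Q.IsPrime]
    (h0 : ∀ (C : Type u) [CommRing C] (σ : R →+* C), (∀ r ∈ Q.comap (algebraMap R B), σ r = 0) →
      (∀ r, r ∉ Q.comap (algebraMap R B) → IsUnit (σ r)) → ∀ (χ : G →* C)
        (x : Spec (CommRingCat.of C) ⟶ X), x ≫ q = Spec.map (CommRingCat.ofHom σ) ≫ w → A.op C χ x = x)
    {E : Type u} [CommRing E] (g : Localization.AtPrime Q →+* E)
    (hfin : Algebra.FiniteType R B ∨
      ∀ l, (∀ k : ℕ, l ∈ ((Q.comap (algebraMap R B)) ^ k).map (algebraMap R (Localization.AtPrime Q))) → g l = 0)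
    (χ : G →* E) :
    A.op E χ (Spec.map (CommRingCat.ofHom (g.comp (algebraMap B (Localization.AtPrime Q)))) ≫ ι) =
      Spec.map (CommRingCat.ofHom (g.comp (algebraMap B (Localization.AtPrime Q)))) ≫ ι := by
  classical
  haveI : Fintype G := Fintype.ofFinite G
  let p := Q.comap (algebraMap R B)
  let L := Localization.AtPrime Q
  let D := MonoidAlgebra L G
  let cB : B →+* D := MonoidAlgebra.singleOneRingHom.comp (algebraMap B L)
  let χ₀ : G →* D := MonoidAlgebra.of L G
  have hRL : ∀ r : R, algebraMap R L r = algebraMap B L (algebraMap R B r) :=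
    fun r => IsScalarTower.algebraMap_apply R B L r
  have hRin : ∀ r ∈ p, algebraMap R L r ∈ IsLocalRing.maximalIdeal L := fun r hr => by
    rw [hRL]
    exact (IsLocalization.AtPrime.to_map_mem_maximal_iff L Q _).mpr hr
  have hRout : ∀ r, r ∉ p → IsUnit (algebraMap R L r) := fun r hr => by
    rw [hRL]
    exact IsLocalization.map_units L (⟨algebraMap R B r, hr⟩ : Q.primeCompl)
  set y₀ := A.op D χ₀ (Spec.map (CommRingCat.ofHom cB) ≫ ι) with hy₀
  haveI : Module.Finite L D := Module.Finite.of_basis (MonoidAlgebra.basis G L)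
  haveI : Algebra.IsIntegral L D := Algebra.IsIntegral.of_finite L D
  have hmax : ∀ (P : Ideal D) [P.IsMaximal] (x : L), x ∈ IsLocalRing.maximalIdeal L →
      MonoidAlgebra.singleOneRingHom x ∈ P := fun P _ x hx => by
    haveI : (P.comap (algebraMap L D)).IsMaximal := Ideal.isMaximal_comap_of_isIntegral_of_isMaximal P
    rw [← IsLocalRing.eq_maximalIdeal ‹(P.comap (algebraMap L D)).IsMaximal›] at hx
    exact hx
  -- at the closed points the universal point stays where it was
  let qm : ∀ P : Ideal D, D →+* D ⧸ P := fun P => Ideal.Quotient.mk P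
  have hclosed : ∀ (P : Ideal D) [P.IsMaximal], Spec.map (CommRingCat.ofHom (R := D) (S := D ⧸ P) (qm P)) ≫ y₀ =
      Spec.map (CommRingCat.ofHom (R := D) (S := D ⧸ P) (qm P)) ≫ Spec.map (CommRingCat.ofHom cB) ≫ ι := by
    intro P _
    rw [hy₀, ← A.op_nat]
    refine h0 _ (((qm P).comp cB).comp (algebraMap R B)) (fun r hr => ?_) (fun r hr => ?_) _ _ ?_
    · rw [RingHom.comp_apply, RingHom.comp_apply, Ideal.Quotient.eq_zero_iff_mem]
      change MonoidAlgebra.singleOneRingHom (algebraMap B L (algebraMap R B r)) ∈ P
      rw [← hRL]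
      exact hmax P _ (hRin r hr)
    · rw [RingHom.comp_apply, RingHom.comp_apply]
      refine IsUnit.map _ ?_
      change IsUnit (MonoidAlgebra.singleOneRingHom (algebraMap B L (algebraMap R B r)))
      rw [← hRL]
      exact (hRout r hr).map _
    · rw [Category.assoc, Category.assoc, hι, ← Category.assoc, ← Category.assoc, ← Spec.map_comp, ← Spec.map_comp]
      rfl
  have hrange : Set.range y₀.base ⊆ Set.range ι.base := by
    rintro _ ⟨P, rfl⟩
    obtain ⟨m, hm, hPm⟩ := Ideal.exists_le_maximal (P : PrimeSpectrum D).asIdeal (P : PrimeSpectrum D).isPrime.ne_top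
    haveI := hm
    let Pm : ↥(Spec (CommRingCat.of D)) := (⟨m, hm.isPrime⟩ : PrimeSpectrum D)
    have hsp : P ⤳ Pm := (PrimeSpectrum.le_iff_specializes (P : PrimeSpectrum D) ⟨m, hm.isPrime⟩).mp hPm
    obtain ⟨z, hz⟩ : ∃ z, (Spec.map (CommRingCat.ofHom (R := D) (S := D ⧸ m) (qm m))).base z = Pm := by
      refine ⟨(⟨⊥, Ideal.isPrime_bot⟩ : PrimeSpectrum (D ⧸ m)), PrimeSpectrum.ext ?_⟩
      change Ideal.comap (qm m) ⊥ = m
      rw [← RingHom.ker_eq_comap_bot, Ideal.mk_ker]
    have h1 := congrArg (fun f : Spec (CommRingCat.of (D ⧸ m)) ⟶ X => f.base z) (hclosed m)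
    simp only [Scheme.Hom.comp_base, TopCat.coe_comp, Function.comp_apply, hz] at h1
    exact (hsp.map y₀.continuous).mem_open ι.isOpenEmbedding.isOpen_range (by rw [h1]; exact ⟨_, rfl⟩)
  set α₀ := IsOpenImmersion.lift ι y₀ hrange
  set α : B →+* D := (Spec.preimage α₀).hom with hα
  have hαι : Spec.map (CommRingCat.ofHom α) ≫ ι = y₀ := by
    rw [hα, CommRingCat.ofHom_hom, Spec.map_preimage, IsOpenImmersion.lift_fac]
  have hspec : ∀ {F : Type u} [CommRing F] (f f' : B →+* F),
      Spec.map (CommRingCat.ofHom f) ≫ ι = Spec.map (CommRingCat.ofHom f') ≫ ι → f = f' := by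
    intro F _ f f' hff
    rw [cancel_mono] at hff
    exact congrArg CommRingCat.Hom.hom (Spec.map_injective hff)
  -- the operation on the points of the local ring
  let u : ∀ {F : Type u} [CommRing F], (G →* F) → (L →+* F) → (D →+* F) := fun {F} _ ψ h =>
    letI := h.toAlgebra
    (MonoidAlgebra.lift L F G ψ).toRingHom
  have hu_of : ∀ {F : Type u} [CommRing F] (ψ : G →* F) (h : L →+* F) (m : G) (l : L),
      u ψ h (MonoidAlgebra.single m l) = h l * ψ m := fun {F} _ ψ h m l => by
    letI := h.toAlgebra
    change MonoidAlgebra.lift L F G ψ (MonoidAlgebra.single m l) = _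
    rw [MonoidAlgebra.lift_single, Algebra.smul_def]
    rfl
  have hu : ∀ {F : Type u} [CommRing F] (ψ : G →* F) (h : L →+* F) (y : D),
      u ψ h y = ∑ m, h (y.coeff m) * ψ m := fun {F} _ ψ h y => by
    conv_lhs => rw [← MonoidAlgebra.sum_coeff_single y]
    rw [Finsupp.sum_fintype _ _ (fun m => by simp), map_sum]
    exact Finset.sum_congr rfl fun m _ => hu_of ψ h m _
  have hop : ∀ {F : Type u} [CommRing F] (ψ : G →* F) (h : L →+* F),
      A.op F ψ (Spec.map (CommRingCat.ofHom (h.comp (algebraMap B L))) ≫ ι) =
        Spec.map (CommRingCat.ofHom ((u ψ h).comp α)) ≫ ι := by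
    intro F _ ψ h
    have h1 := A.op_nat D F (u ψ h) χ₀ (Spec.map (CommRingCat.ofHom cB) ≫ ι)
    have hχ : ((u ψ h : D →+* F) : D →* F).comp χ₀ = ψ := MonoidHom.ext fun m => by
      change u ψ h (MonoidAlgebra.single m 1) = ψ m
      rw [hu_of, map_one, one_mul]
    have hh : (u ψ h).comp cB = h.comp (algebraMap B L) := RingHom.ext fun b => by
      change u ψ h (MonoidAlgebra.single 1 (algebraMap B L b)) = h (algebraMap B L b)
      rw [hu_of, map_one, mul_one]
    rw [← Category.assoc, ← Spec.map_comp, ← CommRingCat.ofHom_comp, hh, hχ, ← hy₀, ← hαι,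
      ← Category.assoc, ← Spec.map_comp, ← CommRingCat.ofHom_comp] at h1
    exact h1
  have hover : α.comp (algebraMap R B) = cB.comp (algebraMap R B) := by
    have h1 : Spec.map (CommRingCat.ofHom (α.comp (algebraMap R B))) ≫ w =
        Spec.map (CommRingCat.ofHom (cB.comp (algebraMap R B))) ≫ w := by
      rw [CommRingCat.ofHom_comp, CommRingCat.ofHom_comp, Spec.map_comp, Spec.map_comp, Category.assoc,
        Category.assoc, ← hι, ← Category.assoc, hαι, hy₀, A.op_over, Category.assoc]
    rw [cancel_mono] at h1
    exact congrArg CommRingCat.Hom.hom (Spec.map_injective h1)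
  have h1 : ∀ b, ∑ m, (α b).coeff m = algebraMap B L b := by
    intro b
    have h2 := hop (1 : G →* L) (RingHom.id L)
    rw [A.op_one] at h2
    have h3 := RingHom.congr_fun (hspec _ _ h2) b
    change algebraMap B L b = u (1 : G →* L) (RingHom.id L) (α b) at h3
    rw [h3, hu]
    simp
  -- extension to the local ring
  have hunit : ∀ b : Q.primeCompl, IsUnit (α (b : B)) := fun b => by
    by_contra hb
    obtain ⟨m, hm, hbm⟩ := exists_max_ideal_of_mem_nonunits hb
    haveI := hm
    have h2 := hclosed m
    rw [← hαι, ← Category.assoc, ← Category.assoc, ← Spec.map_comp, ← Spec.map_comp, ← CommRingCat.ofHom_comp,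
      ← CommRingCat.ofHom_comp] at h2
    have h3 := RingHom.congr_fun (hspec _ _ h2) (b : B)
    rw [RingHom.comp_apply, RingHom.comp_apply, Ideal.Quotient.eq_zero_iff_mem.mpr hbm] at h3
    exact hm.ne_top (Ideal.eq_top_of_isUnit_mem _ (Ideal.Quotient.eq_zero_iff_mem.mp h3.symm)
      ((IsLocalization.map_units L b).map (MonoidAlgebra.singleOneRingHom (R := L) (M := G))))
  let α' : L →+* D := IsLocalization.lift (M := Q.primeCompl) hunit
  have hα' : ∀ b, α' (algebraMap B L b) = α b := fun b => IsLocalization.lift_eq hunit b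
  have hαR : ∀ r : R, α' (algebraMap R L r) = MonoidAlgebra.single 1 (algebraMap R L r) := fun r => by
    rw [hRL, hα']
    exact RingHom.congr_fun hover r
  let P : G → L →ₗ[R] L := fun m =>
    { toFun := fun l => (α' l).coeff m
      map_add' := fun a b => by rw [map_add, MonoidAlgebra.coeff_add]; rfl
      map_smul' := fun r a => by
        rw [Algebra.smul_def, map_mul, hαR, MonoidAlgebra.coeff_single_one_mul]
        simp [Algebra.smul_def] }
  have h2 : ∀ b m, P m ((α b).coeff m) = (α b).coeff m := by
    intro b m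
    let F := MonoidAlgebra L (G × G)
    let h : L →+* F := MonoidAlgebra.singleOneRingHom
    let χ₁ : G →* F := (MonoidAlgebra.of L (G × G)).comp (MonoidHom.inl G G)
    let χ₂ : G →* F := (MonoidAlgebra.of L (G × G)).comp (MonoidHom.inr G G)
    have h4 := A.op_mul F χ₁ χ₂ (Spec.map (CommRingCat.ofHom (h.comp (algebraMap B L))) ≫ ι)
    rw [hop, hop] at h4
    have e0 : (u χ₂ h).comp α = ((u χ₂ h).comp α').comp (algebraMap B L) := RingHom.ext fun c => by
      simp only [RingHom.comp_apply, hα']
    rw [e0, hop] at h4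
    have h5 := RingHom.congr_fun (hspec _ _ h4) b
    have e1 : ∀ (i j : G) (l : L), h l * χ₂ j * χ₁ i = MonoidAlgebra.single (i, j) l := fun i j l => by
      change (MonoidAlgebra.single (1 : G × G) l : F) * MonoidAlgebra.single ((1 : G), j) 1 *
        MonoidAlgebra.single (i, (1 : G)) 1 = _
      rw [MonoidAlgebra.single_mul_single, MonoidAlgebra.single_mul_single]
      simp
    have e2 : ∀ (i : G) (l : L), h l * (χ₁ * χ₂) i = MonoidAlgebra.single (i, i) l := fun i l => by
      change (MonoidAlgebra.single (1 : G × G) l : F) *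
        (MonoidAlgebra.single (i, (1 : G)) 1 * MonoidAlgebra.single ((1 : G), i) 1) = _
      rw [MonoidAlgebra.single_mul_single, MonoidAlgebra.single_mul_single]
      simp
    have e3 : ∀ y : D, u χ₁ ((u χ₂ h).comp α') y =
        ∑ i, ∑ j, MonoidAlgebra.single (i, j) ((α' (y.coeff i)).coeff j) := fun y => by
      rw [hu]
      refine Finset.sum_congr rfl fun i _ => ?_
      rw [RingHom.comp_apply, hu]
      erw [Finset.sum_mul]
      exact Finset.sum_congr rfl fun j _ => e1 i j _
    have e4 : ∀ y : D, u (χ₁ * χ₂) h y = ∑ i, MonoidAlgebra.single (i, i) (y.coeff i) := fun y => by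
      rw [hu]
      exact Finset.sum_congr rfl fun i _ => e2 i _
    simp only [RingHom.comp_apply] at h5
    rw [e3, e4] at h5
    have h6 := congrArg (fun z : F => z.coeff (m, m)) h5
    simp only [MonoidAlgebra.coeff_sum, Finset.sum_apply', MonoidAlgebra.coeff_single,
      Finsupp.single_apply, Prod.mk.injEq] at h6
    rw [Finset.sum_eq_single m (fun i _ hi => by rw [if_neg (fun h => hi h.1)]) (fun h => absurd (Finset.mem_univ m) h),
      Finset.sum_eq_single m (fun i _ hi => Finset.sum_eq_zero fun j _ => by rw [if_neg (fun h => hi h.1)])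
        (fun h => absurd (Finset.mem_univ m) h),
      Finset.sum_eq_single m (fun j _ hj => by rw [if_neg (fun h => hj h.2)]) (fun h => absurd (Finset.mem_univ m) h),
      if_pos ⟨rfl, rfl⟩, if_pos ⟨rfl, rfl⟩] at h6
    exact h6.symm
  -- the components vanish on the fibre
  have h0' : ∀ b m, m ≠ 1 → (α b).coeff m ∈ p.map (algebraMap R L) := by
    intro b m hm
    let J : Ideal L := p.map (algebraMap R L)
    let h : L →+* MonoidAlgebra (L ⧸ J) G := MonoidAlgebra.singleOneRingHom.comp (Ideal.Quotient.mk J)
    have h4 := hop (F := MonoidAlgebra (L ⧸ J) G) (MonoidAlgebra.of (L ⧸ J) G) h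
    rw [h0 _ (h.comp (algebraMap R L))
      (fun r hr => by
        rw [RingHom.comp_apply, RingHom.comp_apply, Ideal.Quotient.eq_zero_iff_mem.mpr (Ideal.mem_map_of_mem _ hr), map_zero])
      (fun r hr => (hRout r hr).map h) _ _
      (by rw [Category.assoc, hι, ← Category.assoc, ← Spec.map_comp, ← CommRingCat.ofHom_comp, RingHom.comp_assoc,
            ← IsScalarTower.algebraMap_eq])] at h4
    have h5 := RingHom.congr_fun (hspec _ _ h4) b
    have h6 := congrArg (fun z : MonoidAlgebra (L ⧸ J) G => z.coeff m) h5
    simp only [RingHom.comp_apply, hu, MonoidAlgebra.coeff_sum, Finset.sum_apply'] at h6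
    rw [Finset.sum_eq_single m (fun i _ hi => ?_) (fun h => absurd (Finset.mem_univ m) h)] at h6
    · rw [← Ideal.Quotient.eq_zero_iff_mem]
      refine Eq.trans ?_ (h6.symm.trans ?_)
      · simp [h, MonoidAlgebra.of, MonoidAlgebra.single_mul_single]
        rfl
      · simp [h, Finsupp.single_eq_of_ne hm]
    · simp [h, MonoidAlgebra.of, MonoidAlgebra.single_mul_single, Finsupp.single_eq_of_ne (Ne.symm hi)]
  have hone : ∀ (I : Ideal L), (∀ b m, m ≠ 1 → (α b).coeff m ∈ I) → ∀ b, (α b).coeff 1 - algebraMap B L b ∈ I := by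
    intro I hI b
    rw [← h1 b, ← Finset.add_sum_erase _ _ (Finset.mem_univ (1 : G)), sub_add_cancel_left]
    exact neg_mem (sum_mem fun i hi => hI b i (Finset.ne_of_mem_erase hi))
  have hstep : ∀ (I : Ideal L), (∀ b m, m ≠ 1 → (α b).coeff m ∈ I) → ∀ b m, m ≠ 1 →
      (α b).coeff m ∈ p.map (algebraMap R L) * I := by
    intro I hI b m hm
    have hall : ∀ l, P m l ∈ I := by
      intro l
      have e : (MonoidAlgebra.mapRingHom G (Ideal.Quotient.mk I)).comp α' =
          (MonoidAlgebra.singleOneRingHom (R := L ⧸ I) (M := G)).comp (Ideal.Quotient.mk I) :=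
        IsLocalization.ringHom_ext Q.primeCompl (RingHom.ext fun c => MonoidAlgebra.ext (Finsupp.ext fun i => by
          change (MonoidAlgebra.mapRingHom G (Ideal.Quotient.mk I) (α' (algebraMap B L c))).coeff i =
            (MonoidAlgebra.single (1 : G) (Ideal.Quotient.mk I (algebraMap B L c))).coeff i
          rw [hα', MonoidAlgebra.coeff_single]
          by_cases hi : i = 1
          · subst hi
            rw [Finsupp.single_eq_same]
            refine Eq.trans ?_ (Ideal.Quotient.eq.mpr (hone I hI c))
            simp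
          · rw [Finsupp.single_eq_of_ne hi]
            simpa [Ideal.Quotient.eq_zero_iff_mem] using hI c i hi))
      have e' := congrArg (fun z : MonoidAlgebra (L ⧸ I) G => z.coeff m) (RingHom.congr_fun e l)
      simp only [RingHom.comp_apply] at e'
      rw [← Ideal.Quotient.eq_zero_iff_mem]
      simpa [P, Finsupp.single_eq_of_ne hm] using e'
    rw [← h2 b m]
    have hx : (α b).coeff m ∈ p • (⊤ : Submodule R L) := by
      rw [Ideal.smul_top_eq_map]
      exact h0' b m hm
    generalize (α b).coeff m = x at hx
    exact Submodule.smul_induction_on (p := fun x => P m x ∈ p.map (algebraMap R L) * I) hx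
      (fun r hr l _ => by
        rw [map_smul, Algebra.smul_def]
        exact Ideal.mul_mem_mul (Ideal.mem_map_of_mem _ hr) (hall _))
      (fun x y hx hy => by rw [map_add]; exact add_mem hx hy)
  -- conclusion
  rw [hop χ g]
  congr 2
  refine congrArg CommRingCat.ofHom (RingHom.ext fun b => ?_)
  rw [RingHom.comp_apply, RingHom.comp_apply, hu]
  have hkill : ∀ b m, m ≠ 1 → g ((α b).coeff m) = 0 := by
    rcases hfin with hft | hsep
    · obtain ⟨T, hT⟩ := hft.out
      let gens : Finset L := T.biUnion fun t => (Finset.univ.filter fun m => m ≠ (1 : G)).image fun m => (α t).coeff m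
      set I : Ideal L := Ideal.span (gens : Set L) with hIdef
      have hgen : ∀ b m, m ≠ 1 → (α b).coeff m ∈ I := by
        intro b m hm
        have hb : b ∈ Algebra.adjoin R (T : Set B) := by rw [hT]; trivial
        induction hb using Algebra.adjoin_induction generalizing m with
        | mem t ht => exact Ideal.subset_span (Finset.mem_biUnion.mpr ⟨t, ht, Finset.mem_image.mpr ⟨m, by simp [hm], rfl⟩⟩)
        | algebraMap r =>
          rw [show α (algebraMap R B r) = cB (algebraMap R B r) from RingHom.congr_fun hover r]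
          change (MonoidAlgebra.single 1 _).coeff m ∈ I
          rw [MonoidAlgebra.coeff_single, Finsupp.single_eq_of_ne hm]
          exact zero_mem _
        | add x y _ _ hx hy => rw [map_add, MonoidAlgebra.coeff_add]; exact add_mem (hx m hm) (hy m hm)
        | mul x y _ _ hx hy =>
          rw [map_mul, MonoidAlgebra.coeff_mul, Finsupp.sum]
          refine Submodule.sum_mem _ fun i _ => Submodule.sum_mem _ fun j _ => ?_
          dsimp only
          split_ifs with hij
          · by_cases hi : i = 1
            · refine Ideal.mul_mem_left _ _ (hy j ?_)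
              rintro rfl
              exact hm (by rw [← hij, hi, one_mul])
            · exact Ideal.mul_mem_right _ _ (hx i hi)
          · exact zero_mem _
      have hbot : I = ⊥ := by
        refine Submodule.eq_bot_of_le_smul_of_le_jacobson_bot (p.map (algebraMap R L)) I ⟨gens, rfl⟩ ?_ ?_
        · rw [Ideal.smul_eq_mul]
          refine Ideal.span_le.mpr fun x hx => ?_
          obtain ⟨t, -, hx'⟩ := Finset.mem_biUnion.mp hx
          obtain ⟨m, hm, rfl⟩ := Finset.mem_image.mp hx'
          exact hstep I hgen t m (Finset.mem_filter.mp hm).2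
        · rw [IsLocalRing.jacobson_eq_maximalIdeal ⊥ bot_ne_top]
          exact Ideal.map_le_iff_le_comap.mpr hRin
      intro b m hm
      have h7 := hgen b m hm
      rw [hbot, Ideal.mem_bot] at h7
      rw [h7, map_zero]
    · have hk : ∀ k b m, m ≠ 1 → (α b).coeff m ∈ (p ^ k).map (algebraMap R L) := by
        intro k
        induction k with
        | zero => intro b m _; rw [pow_zero, Ideal.one_eq_top, Ideal.map_top]; trivial
        | succ k ih =>
          intro b m hm
          rw [pow_succ', Ideal.map_mul]
          exact hstep _ ih b m hm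
      intro b m hm
      exact hsep _ fun k => hk k b m hm
  rw [Finset.sum_eq_single (1 : G) (fun m _ hm => by rw [hkill b m hm, zero_mul])
    (fun h => absurd (Finset.mem_univ _) h), map_one χ, mul_one, ← h1 b, map_sum,
    Finset.sum_eq_single (1 : G) (fun m _ hm => hkill b m hm) (fun h => absurd (Finset.mem_univ _) h)]

end GrothLib.CentLoc14
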