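import Mathlib.AlgebraicGeometry.Morphisms.Immersion
import Mathlib.AlgebraicGeometry.Morphisms.FinitePresentation
import Mathlib.RingTheory.Localization.Ideal
import Mathlib.RingTheory.Localization.Away.Basic

/-!
A factorisation through a locally finitely presented immersion spreads out from a localisation.
-/

universe u

open CategoryTheory CategoryTheory.Limits AlgebraicGeometry

namespace GrothLib.CentLoc14

/-- A finitely presented closed immersion through which a localisation factors contains a basic open. -/
theorem exists_away_of_closed {A : Type u} [CommRing A] {Z : Scheme.{u}} (j : Z ⟶ Spec (CommRingCat.of A))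
    [IsClosedImmersion j] [LocallyOfFinitePresentation j] (N : Submonoid A)
    (l : Spec (CommRingCat.of (Localization N)) ⟶ Z)
    (hl : l ≫ j = Spec.map (CommRingCat.ofHom (algebraMap A (Localization N)))) :
    ∃ n ∈ N, ∃ l' : Spec (CommRingCat.of (Localization.Away n)) ⟶ Z,
      l' ≫ j = Spec.map (CommRingCat.ofHom (algebraMap A (Localization.Away n))) := by
  obtain ⟨I, i, he⟩ := IsClosedImmersion.Spec_iff.mp ‹IsClosedImmersion j›
  have hfp : RingHom.FinitePresentation (Ideal.Quotient.mk I) := by
    have h : LocallyOfFinitePresentation (i.hom ≫ Spec.map (CommRingCat.ofHom (Ideal.Quotient.mk I))) := by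
      rw [← he]; infer_instance
    rw [MorphismProperty.cancel_left_of_respectsIso @LocallyOfFinitePresentation,
      HasRingHomProperty.Spec_iff (P := @LocallyOfFinitePresentation)] at h
    exact h
  rw [← Ideal.Quotient.algebraMap_eq, RingHom.finitePresentation_algebraMap] at hfp
  obtain ⟨T, hT⟩ := Algebra.FinitePresentation.ker_fG_of_surjective (Algebra.ofId A (A ⧸ I)) Ideal.Quotient.mk_surjective
  replace hT : Ideal.span (T : Set A) = I := hT.trans Ideal.mk_ker
  have hkill : ∀ x ∈ I, algebraMap A (Localization N) x = 0 := by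
    intro x hx
    have hk : CommRingCat.ofHom (algebraMap A (Localization N)) =
        CommRingCat.ofHom (Ideal.Quotient.mk I) ≫ Spec.preimage (l ≫ i.hom) :=
      Spec.map_injective (by rw [Spec.map_comp, Spec.map_preimage, Category.assoc, ← he, hl])
    refine (congrArg (fun φ => φ.hom x) hk).trans ?_
    show (Spec.preimage (l ≫ i.hom)).hom (Ideal.Quotient.mk I x) = 0
    rw [Ideal.Quotient.eq_zero_iff_mem.2 hx, map_zero]
  choose n hn using fun x : T => (IsLocalization.map_eq_zero_iff N (Localization N) (x : A)).mp
    (hkill x (hT ▸ Ideal.subset_span x.2))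
  refine ⟨((∏ x : T, n x : N) : A), SetLike.coe_mem _, ?_⟩
  set L := Localization.Away ((∏ x : T, n x : N) : A)
  have hI : I ≤ RingHom.ker (algebraMap A L) := by
    rw [← hT]
    refine Ideal.span_le.mpr fun x hx => ?_
    rw [SetLike.mem_coe, RingHom.mem_ker, IsLocalization.map_eq_zero_iff (Submonoid.powers ((∏ x : T, n x : N) : A))]
    refine ⟨⟨_, Submonoid.mem_powers _⟩, ?_⟩
    classical
    rw [← Finset.prod_erase_mul _ _ (Finset.mem_univ (⟨x, hx⟩ : T))]
    push_cast
    rw [mul_assoc, hn ⟨x, hx⟩, mul_zero]
  refine ⟨Spec.map (CommRingCat.ofHom (Ideal.Quotient.lift I (algebraMap A L) hI)) ≫ i.inv, ?_⟩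
  rw [he, Category.assoc, Iso.inv_hom_id_assoc, ← Spec.map_comp]
  rfl

/-- A factorisation of a localisation through a finitely presented immersion spreads to a basic open. -/
theorem exists_away_of_immersion {A : Type u} [CommRing A] {Z : Scheme.{u}} (j : Z ⟶ Spec (CommRingCat.of A))
    [IsImmersion j] [LocallyOfFinitePresentation j] (N : Submonoid A)
    (l : Spec (CommRingCat.of (Localization N)) ⟶ Z)
    (hl : l ≫ j = Spec.map (CommRingCat.ofHom (algebraMap A (Localization N)))) :
    ∃ n ∈ N, ∃ l' : Spec (CommRingCat.of (Localization.Away n)) ⟶ Z,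
      l' ≫ j = Spec.map (CommRingCat.ofHom (algebraMap A (Localization.Away n))) := by
  obtain ⟨J, hJ⟩ := (PrimeSpectrum.isClosed_iff_zeroLocus_ideal _).mp j.coborderRange.isOpen.isClosed_compl
  have hne : ∀ (P : PrimeSpectrum (Localization N)),
      ¬ J ≤ P.asIdeal.comap (algebraMap A (Localization N)) := fun P hP => by
    have h1 : (Spec.map (CommRingCat.ofHom (algebraMap A (Localization N)))).base P ∈
        ((j.coborderRange : Set _))ᶜ := by
      rw [hJ]; exact hP
    refine h1 ?_
    rw [← hl, Scheme.Hom.comp_apply]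
    exact subset_coborder ⟨_, rfl⟩
  have htop : J.map (algebraMap A (Localization N)) = ⊤ := by
    by_contra h
    obtain ⟨P, hP, hle⟩ := Ideal.exists_le_maximal _ h
    exact hne ⟨P, hP.isPrime⟩ (Ideal.map_le_iff_le_comap.mp hle)
  have hdisj : ¬ Disjoint (N : Set A) (J : Set A) := fun hd =>
    (IsLocalization.map_algebraMap_ne_top_iff_disjoint N (Localization N) J).mpr hd htop
  obtain ⟨n₀, hn₀, hn₀J⟩ := Set.not_disjoint_iff.mp hdisj
  let e := Spec.map (CommRingCat.ofHom (algebraMap A (Localization.Away n₀)))
  have hrange : Set.range e.base ⊆ j.coborderRange := by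
    rintro _ ⟨P, rfl⟩
    by_contra h
    have h1 : e.base P ∈ ((j.coborderRange : Set _))ᶜ := h
    rw [hJ] at h1
    exact (P : PrimeSpectrum (Localization.Away n₀)).isPrime.ne_top (Ideal.eq_top_of_isUnit_mem _ (h1 hn₀J)
      (IsLocalization.Away.algebraMap_isUnit n₀))
  let j' := pullback.fst e j
  haveI : IsImmersion j' := MorphismProperty.pullback_fst e j ‹_›
  haveI : LocallyOfFinitePresentation j' := MorphismProperty.pullback_fst e j ‹_›
  haveI : IsClosedImmersion j' := by
    refine .of_isPreimmersion j' ?_
    rw [Scheme.Pullback.range_fst]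
    have hopen : e.base ⁻¹' Set.range j.base = e.base ⁻¹' closure (Set.range j.base) := by
      refine Set.Subset.antisymm (Set.preimage_mono subset_closure) fun P hP => ?_
      by_contra h
      exact (show e.base P ∈ coborder (Set.range j.base) from hrange ⟨P, rfl⟩) ⟨hP, h⟩
    rw [hopen]
    exact isClosed_closure.preimage e.continuous
  let M : Submonoid (Localization.Away n₀) := N.map (algebraMap A (Localization.Away n₀))
  let φ : Localization.Away n₀ →+* Localization N :=
    IsLocalization.Away.lift n₀ (IsLocalization.map_units (Localization N) ⟨n₀, hn₀⟩)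
  have hφ : φ.comp (algebraMap A (Localization.Away n₀)) = algebraMap A (Localization N) :=
    IsLocalization.Away.lift_comp n₀ _
  let ψ : A →+* Localization M := (algebraMap (Localization.Away n₀) (Localization M)).comp (algebraMap A _)
  let χ : Localization N →+* Localization M := IsLocalization.lift (M := N) (g := ψ)
    fun y => IsLocalization.map_units (M := M) (Localization M) ⟨algebraMap A (Localization.Away n₀) (y : A), Submonoid.mem_map.mpr ⟨(y : A), y.2, rfl⟩⟩
  have hχ : χ.comp φ = algebraMap (Localization.Away n₀) (Localization M) :=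
    IsLocalization.ringHom_ext (Submonoid.powers n₀) (by rw [RingHom.comp_assoc, hφ]; exact IsLocalization.lift_comp _)
  obtain ⟨m, hm, l', hl'⟩ := exists_away_of_closed j' M
    (pullback.lift (Spec.map (CommRingCat.ofHom (algebraMap (Localization.Away n₀) (Localization M))))
      (Spec.map (CommRingCat.ofHom χ) ≫ l) (by
        rw [Category.assoc, hl, ← Spec.map_comp, ← Spec.map_comp, ← CommRingCat.ofHom_comp, ← CommRingCat.ofHom_comp,
          ← hφ, ← RingHom.comp_assoc, hχ])) (pullback.lift_fst _ _ _)
  obtain ⟨m₁, hm₁, rfl⟩ := Submonoid.mem_map.mp hm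
  refine ⟨n₀ * m₁, N.mul_mem hn₀ hm₁, ?_⟩
  set L := Localization.Away (n₀ * m₁)
  have hu₀ : IsUnit (algebraMap A L n₀) ∧ IsUnit (algebraMap A L m₁) := by
    rw [← IsUnit.mul_iff, ← map_mul]; exact IsLocalization.Away.algebraMap_isUnit _
  let α : Localization.Away n₀ →+* L := IsLocalization.Away.lift n₀ hu₀.1
  let β : Localization.Away (algebraMap A (Localization.Away n₀) m₁) →+* L :=
    IsLocalization.Away.lift (algebraMap A (Localization.Away n₀) m₁) (g := α)
      (by rw [IsLocalization.Away.lift_eq]; exact hu₀.2)
  refine ⟨Spec.map (CommRingCat.ofHom β) ≫ l' ≫ pullback.snd e j, ?_⟩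
  rw [Category.assoc, Category.assoc, ← pullback.condition]
  change Spec.map (CommRingCat.ofHom β) ≫ l' ≫ j' ≫ e = _
  rw [reassoc_of% hl', ← Spec.map_comp, ← Spec.map_comp, ← CommRingCat.ofHom_comp, ← CommRingCat.ofHom_comp,
    ← RingHom.comp_assoc, IsLocalization.Away.lift_comp, IsLocalization.Away.lift_comp]

end GrothLib.CentLoc14
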