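import Groth.Agent.Lib.CentLoc14.Act
import Groth.Agent.Lib.CentLoc14.Spread
import Groth.Agent.Lib.DiagGrp.TrivOver
import Groth.Agent.Lib.DiagGrp.KernelFP
import Groth.Agent.Lib.GrpSchField.Shear
import Groth.Agent.Lib.GrpSchField.Open
import Groth.Agent.Lib.GrpSchField.Field
import Groth.Agent.Lib.SepAct.Connected

/-!
The locus where an action of a group of multiplicative type is trivial is a neighbourhood of a fibre on which
it is trivial.
-/

universe u

open CategoryTheory MonoidalCategory CartesianMonoidalCategory MonObj GrpObj AlgebraicGeometry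
open CategoryTheory.Limits

namespace GrothLib.CentLoc14

open GrothLib.DiagGrp

/-- Two maps into a scheme locally of finite type which agree on a localisation agree on a basic open. -/
theorem exists_away_eq {A : Type u} [CommRing A] (N : Submonoid A) {Y Z : Scheme.{u}} (q : Y ⟶ Z)
    [LocallyOfFiniteType q] (a b : Spec (CommRingCat.of A) ⟶ Y) (hab : a ≫ q = b ≫ q)
    (h : Spec.map (CommRingCat.ofHom (algebraMap A (Localization N))) ≫ a =
      Spec.map (CommRingCat.ofHom (algebraMap A (Localization N))) ≫ b) :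
    ∃ n ∈ N, Spec.map (CommRingCat.ofHom (algebraMap A (Localization.Away n))) ≫ a =
      Spec.map (CommRingCat.ofHom (algebraMap A (Localization.Away n))) ≫ b := by
  let j := pullback.fst (pullback.lift a b hab) (pullback.diagonal q)
  haveI : IsImmersion j := MorphismProperty.pullback_fst (P := @IsImmersion) _ _ inferInstance
  haveI : LocallyOfFinitePresentation (pullback.diagonal q) :=
    GrothLib.DiagGrp.lfp_of_comp_of_lft (pullback.diagonal q) (pullback.fst q q)
      (by rw [pullback.diagonal_fst]; infer_instance) inferInstance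
  haveI : LocallyOfFinitePresentation j :=
    MorphismProperty.pullback_fst (P := @LocallyOfFinitePresentation) _ _ inferInstance
  obtain ⟨n, hn, l, hl⟩ := exists_away_of_immersion j N
    (pullback.lift _ (Spec.map (CommRingCat.ofHom (algebraMap A (Localization N))) ≫ a) (by
      apply pullback.hom_ext
      · rw [Category.assoc, Category.assoc, pullback.lift_fst, pullback.diagonal_fst, Category.comp_id]
      · rw [Category.assoc, Category.assoc, pullback.lift_snd, pullback.diagonal_snd, Category.comp_id]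
        exact h.symm)) (pullback.lift_fst _ _ _)
  refine ⟨n, hn, ?_⟩
  have hc := pullback.condition (f := pullback.lift a b hab) (g := pullback.diagonal q)
  rw [← hl, Category.assoc, Category.assoc]
  refine congrArg (l ≫ ·) (((congrArg (j ≫ ·) (pullback.lift_fst a b hab)).symm.trans ?_).trans
    (congrArg (j ≫ ·) (pullback.lift_snd a b hab)))
  rw [← Category.assoc, ← Category.assoc, hc, Category.assoc, Category.assoc, pullback.diagonal_fst,
    pullback.diagonal_snd]

variable {S : Scheme.{u}} {H X : Over S} [GrpObj H] (a : AlgGrp.Action H X)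

/-- Each point of the fibre has a neighbourhood of points fixed by everything. -/
theorem exists_open_act_trivial (hH : HasChartsFpqc fgM H) [LocallyOfFiniteType X.hom]
    (hsep : ∀ t : S, IsSeparated (pullback.snd X.hom (S.fromSpecResidueField t))) (s : S) (h0 : TrivialAt a s)
    (x : X.left) (hx : X.hom.base x = s) :
    ∃ W : X.left.Opens, x ∈ W ∧ ∀ (Y : Over S) (h : Y ⟶ H) (y : Y ⟶ X),
      Set.range y.left.base ⊆ (W : Set X.left) → lift h y ≫ a.act = y := by
  obtain ⟨U, hU, hxU, -⟩ :=
    exists_isAffineOpen_mem_and_subset (show x ∈ (⊤ : X.left.Opens) from TopologicalSpace.Opens.mem_top _)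
  set j := hU.fromSpec
  haveI : IsAffineHom H.hom := GrothLib.EssFree.isAffineHom_of_charts hH
  let P := pullback H.hom (j ≫ X.hom)
  haveI : IsAffine P := isAffine_of_isAffineHom (pullback.snd H.hom (j ≫ X.hom))
  let T : Over S := Over.mk (pullback.fst H.hom (j ≫ X.hom) ≫ H.hom)
  let h₀ : T ⟶ H := Over.homMk (pullback.fst H.hom (j ≫ X.hom)) rfl
  let y₀ : T ⟶ X := Over.homMk (pullback.snd H.hom (j ≫ X.hom) ≫ j) (by
    change (pullback.snd H.hom (j ≫ X.hom) ≫ j) ≫ X.hom = pullback.fst H.hom (j ≫ X.hom) ≫ H.hom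
    rw [Category.assoc, pullback.condition])
  -- in coordinates
  let A := Γ(P, ⊤)
  let B := Γ(X.left, U)
  let i : Spec A ⟶ P := P.isoSpec.inv
  letI : Algebra B A := (Spec.preimage (i ≫ pullback.snd H.hom (j ≫ X.hom))).hom.toAlgebra
  have hi : i ≫ pullback.snd H.hom (j ≫ X.hom) = Spec.map (CommRingCat.ofHom (algebraMap B A)) :=
    (Spec.map_preimage _).symm
  obtain ⟨x₁, hx₁⟩ : x ∈ Set.range j.base := by rw [hU.range_fromSpec]; exact hxU
  let Q : Ideal B := (x₁ : PrimeSpectrum B).asIdeal
  let N : Submonoid A := Algebra.algebraMapSubmonoid A Q.primeCompl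
  let E := Localization.AtPrime Q
  let φ : E →+* Localization N := IsLocalization.lift (M := Q.primeCompl)
    (g := (algebraMap A (Localization N)).comp (algebraMap B A))
    fun b => IsLocalization.map_units (M := N) (Localization N)
      ⟨algebraMap B A (b : B), Algebra.mem_algebraMapSubmonoid_of_mem b⟩
  have hφ : φ.comp (algebraMap B E) = (algebraMap A (Localization N)).comp (algebraMap B A) :=
    IsLocalization.lift_comp _
  let T' : Over S :=
    Over.mk ((Spec.map (CommRingCat.ofHom (algebraMap A (Localization N))) ≫ i) ≫ T.hom)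
  let t : T' ⟶ T := Over.homMk (Spec.map (CommRingCat.ofHom (algebraMap A (Localization N))) ≫ i) rfl
  have hloc : lift (t ≫ h₀) (t ≫ y₀) ≫ a.act = t ≫ y₀ := by
    refine act_trivial_local a hH hsep s h0 (Spec.map (CommRingCat.ofHom (algebraMap B E)) ≫ j) ?_
      (Or.inl inferInstance) T' (Spec.map (CommRingCat.ofHom φ)) _ _ ?_
    · have hb : (Spec.map (CommRingCat.ofHom (algebraMap B E))).base (IsLocalRing.closedPoint E) = x₁ :=
        PrimeSpectrum.ext (IsLocalization.AtPrime.comap_maximalIdeal E Q)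
      rw [Scheme.Hom.comp_apply, hb, hx₁, hx]
    · change (Spec.map (CommRingCat.ofHom (algebraMap A (Localization N))) ≫ i) ≫
        pullback.snd H.hom (j ≫ X.hom) ≫ j = _
      rw [Category.assoc, reassoc_of% hi, ← Category.assoc, ← Category.assoc, ← Spec.map_comp, ← Spec.map_comp,
        ← CommRingCat.ofHom_comp, ← CommRingCat.ofHom_comp, hφ]
  rw [← comp_lift, Category.assoc] at hloc
  obtain ⟨n, hn, hA⟩ := exists_away_eq N X.hom (i ≫ (lift h₀ y₀ ≫ a.act).left) (i ≫ y₀.left)
    ((Category.assoc _ _ _).trans ((congrArg (i ≫ ·) ((Over.w _).trans (Over.w y₀).symm)).trans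
      (Category.assoc _ _ _).symm))
    ((Category.assoc _ _ _).symm.trans ((congrArg Over.Hom.left hloc).trans (Category.assoc _ _ _)))
  obtain ⟨b, hb, hbn⟩ := Submonoid.mem_map.mp hn
  let D : (Spec (CommRingCat.of B)).Opens := PrimeSpectrum.basicOpen b
  refine ⟨j ''ᵁ D, ⟨x₁, hb, hx₁⟩, fun Y h y hy => ?_⟩
  have hyj : Set.range y.left.base ⊆ Set.range j.base := hy.trans (Set.image_subset_range _ _)
  let yB := IsOpenImmersion.lift j y.left hyj
  have hyB : yB ≫ j = y.left := IsOpenImmersion.lift_fac _ _ _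
  let p : Y.left ⟶ P := pullback.lift h.left yB (by rw [reassoc_of% hyB, Over.w, Over.w])
  let e := Spec.map (CommRingCat.ofHom (algebraMap A (Localization.Away n)))
  have hr : Set.range (p ≫ P.isoSpec.hom).base ⊆ Set.range e.base := by
    rintro _ ⟨z, rfl⟩
    have h1 : (Spec.map (CommRingCat.ofHom (algebraMap B A))).base ((p ≫ P.isoSpec.hom).base z) = yB.base z := by
      rw [← hi, ← Scheme.Hom.comp_apply, Category.assoc, Iso.hom_inv_id_assoc, pullback.lift_snd]
    obtain ⟨w, hw, hwy⟩ := hy ⟨z, rfl⟩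
    have h2 : yB.base z = w := j.isOpenEmbedding.injective
      (((Scheme.Hom.comp_apply yB j z).symm.trans (congrArg (fun t : Y.left ⟶ X.left => t.base z) hyB)).trans hwy.symm)
    change _ ∈ Set.range (PrimeSpectrum.comap (algebraMap A (Localization.Away n)))
    rw [PrimeSpectrum.localization_away_comap_range (Localization.Away n) n, ← hbn]
    intro hmem
    have h3 : (w : PrimeSpectrum B) ∈ PrimeSpectrum.basicOpen b := hw
    rw [← h2, ← h1] at h3
    exact h3 hmem
  have hl := IsOpenImmersion.lift_fac e (p ≫ P.isoSpec.hom) hr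
  let k : Y ⟶ T := Over.homMk p (by
    change p ≫ pullback.fst _ _ ≫ H.hom = Y.hom
    rw [pullback.lift_fst_assoc, Over.w])
  have hk₁ : k ≫ h₀ = h := Over.OverMorphism.ext (pullback.lift_fst _ _ _)
  have hk₂ : k ≫ y₀ = y := Over.OverMorphism.ext (by
    change p ≫ pullback.snd _ _ ≫ j = y.left
    rw [pullback.lift_snd_assoc, hyB])
  have hkey : k ≫ lift h₀ y₀ ≫ a.act = k ≫ y₀ := by
    apply Over.OverMorphism.ext
    change p ≫ (lift h₀ y₀ ≫ a.act).left = p ≫ y₀.left
    have h3 : p = (p ≫ P.isoSpec.hom) ≫ i := by rw [Category.assoc, Iso.hom_inv_id, Category.comp_id]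
    rw [h3, ← hl, Category.assoc, Category.assoc, Category.assoc, Category.assoc, hA]
  rwa [← Category.assoc, comp_lift, hk₁, hk₂] at hkey

/-- The points fixed by everything form, near a fibre of trivial action, an open containing the fibre. -/
theorem exists_open_fibre_act_trivial (hH : HasChartsFpqc fgM H) [LocallyOfFiniteType X.hom]
    (hsep : ∀ t : S, IsSeparated (pullback.snd X.hom (S.fromSpecResidueField t))) (s : S) (h0 : TrivialAt a s) :
    ∃ W : X.left.Opens, (∀ x, X.hom.base x = s → x ∈ W) ∧ ∀ (Y : Over S) (h : Y ⟶ H) (y : Y ⟶ X),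
      Set.range y.left.base ⊆ (W : Set X.left) → lift h y ≫ a.act = y := by
  choose W hxW hW using fun x : {x : X.left // X.hom.base x = s} =>
    exists_open_act_trivial a hH hsep s h0 x.1 x.2
  refine ⟨⨆ x, W x, fun x hx => TopologicalSpace.Opens.mem_iSup.mpr ⟨⟨x, hx⟩, hxW ⟨x, hx⟩⟩, fun Y h y hy => ?_⟩
  apply Over.OverMorphism.ext
  refine Scheme.hom_ext_of_forall _ _ fun P => ?_
  obtain ⟨x, hPx⟩ := TopologicalSpace.Opens.mem_iSup.mp (hy ⟨P, rfl⟩)
  refine ⟨y.left ⁻¹ᵁ W x, hPx, ?_⟩
  let g : Over.mk ((y.left ⁻¹ᵁ W x).ι ≫ Y.hom) ⟶ Y := Over.homMk (y.left ⁻¹ᵁ W x).ι rfl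
  have h1 := hW x _ (g ≫ h) (g ≫ y) (by
    rintro _ ⟨z, rfl⟩
    exact z.2)
  rw [← comp_lift, Category.assoc] at h1
  exact congrArg Over.Hom.left h1

end GrothLib.CentLoc14
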