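import Groth.Agent.Lib.CentLoc14.Central
import Groth.Agent.Lib.DiagGrp.SubgroupEq
import Groth.Agent.Lib.DiagGrp.CharHom
import Groth.Agent.Lib.GrpSchField.Pts
import Mathlib.AlgebraicGeometry.Stalk

/-!
Two subgroups of multiplicative type which coincide on a fibre, centrally, coincide nearby.
-/

universe u

open CategoryTheory MonoidalCategory CartesianMonoidalCategory MonObj GrpObj AlgebraicGeometry
open CategoryTheory.Limits

namespace GrothLib.CentLoc14

open GrothLib.DiagGrp

theorem lift_bi {S : Scheme.{u}} {G H : Over S} [GrpObj G] [GrpObj H] (a b : G ⟶ H) {T : Over S} (g : T ⟶ G)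
    (h : T ⟶ H) :
    lift g h ≫ ((fst G H ≫ a) * snd G H * (fst G H ≫ b)⁻¹) = (g ≫ a) * h * (g ≫ b)⁻¹ := by
  rw [MonObj.comp_mul, MonObj.comp_mul, GrpObj.comp_inv, lift_fst_assoc, lift_snd, lift_fst_assoc]

/-- Translation on the left through one homomorphism and on the right through another. -/
noncomputable def biAction {S : Scheme.{u}} {G H : Over S} [GrpObj G] [GrpObj H] (a b : G ⟶ H) [IsMonHom a]
    [IsMonHom b] : AlgGrp.Action G H :=
    { act := (fst G H ≫ a) * snd G H * (fst G H ≫ b)⁻¹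
      one_act := by
        have h1 : (η[G] ▷ H) = lift (fst _ _ ≫ η[G]) (snd _ _) := by
          apply CartesianMonoidalCategory.hom_ext <;> simp
        rw [h1, lift_bi a b, show fst (𝟙_ (Over S)) H ≫ η[G] = 1 from (by
          rw [toUnit_unique (fst (𝟙_ (Over S)) H) (toUnit _)]; rfl), MonObj.one_comp, MonObj.one_comp,
          _root_.one_mul, inv_one, _root_.mul_one, leftUnitor_hom]
      mul_act := by
        have h1 : (μ[G] ▷ H) = lift ((fst (G ⊗ G) H ≫ fst G G) * (fst (G ⊗ G) H ≫ snd G G)) (snd _ _) := by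
          apply CartesianMonoidalCategory.hom_ext
          · rw [lift_fst, whiskerRight_fst, ← MonObj.comp_mul]
            congr 1
            rw [Hom.mul_def, lift_fst_snd, Category.id_comp]
          · simp
        have h2 : (α_ G G H).hom ≫ (G ◁ ((fst G H ≫ a) * snd G H * (fst G H ≫ b)⁻¹)) =
            lift (fst (G ⊗ G) H ≫ fst G G) (lift (fst (G ⊗ G) H ≫ snd G G) (snd _ _) ≫
              ((fst G H ≫ a) * snd G H * (fst G H ≫ b)⁻¹)) := by
          apply CartesianMonoidalCategory.hom_ext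
          · simp
          · rw [lift_snd, Category.assoc, whiskerLeft_snd, ← Category.assoc]
            congr 1
            apply CartesianMonoidalCategory.hom_ext <;> simp
        rw [h1, lift_bi a b, ← Category.assoc, h2, lift_bi a b, lift_bi a b, MonObj.mul_comp, MonObj.mul_comp,
          _root_.mul_inv_rev]
        simp only [_root_.mul_assoc] }

set_option backward.isDefEq.respectTransparency false in
/-- Two homomorphisms from a diagonalisable group agreeing and central on a fibre agree on the local ring. -/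
theorem trivOver_of_residue {W : Scheme.{u}} {G : Over W} [GrpObj G] {M : Type} [AddCommGroup M]
    (hM : AddGroup.FG M) (a b : Red.DS W M ⟶ G) [IsMonHom a] [IsMonHom b] (p : W)
    (hfin : LocallyOfFiniteType G.hom ∨ IsNoetherianRing (W.presheaf.stalk p))
    (hc : ∀ (Y : Over W) (σ : Y.left ⟶ Spec (W.residueField p)), σ ≫ W.fromSpecResidueField p = Y.hom →
      ∀ (h : Y ⟶ Red.DS W M) (x : Y ⟶ G), (h ≫ a) * x = x * (h ≫ a))
    (heq : TrivOver (b * a⁻¹) (W.fromSpecResidueField p)) : TrivOver (b * a⁻¹) (W.fromSpecStalk p) := by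
  have h0 : TrivialAt (biAction a b) p := fun Y σ hσ h x => by
    have he := heq Y σ hσ h
    rw [MonObj.comp_mul, GrpObj.comp_inv, mul_inv_eq_one] at he
    refine (lift_bi a b h x).trans ?_
    rw [hc Y σ hσ h x, he, mul_inv_cancel_right]
  intro Y τ hτ g
  let e₀ : Over.mk (W.fromSpecStalk p) ⟶ G := 1
  haveI : IsLocalRing (W.presheaf.stalk p) := inferInstance
  let t : Y ⟶ Over.mk (W.fromSpecStalk p) := Over.homMk τ hτ
  have h1 : lift g (t ≫ e₀) ≫ (biAction a b).act = t ≫ e₀ :=
    act_trivial_local (biAction a b) (hasChartsFpqc_DS (M := M) W fgM hM)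
      (fun q => GrothLib.GrpSchField.isSeparated (K := W.residueField q) (Red.bc (W.fromSpecResidueField q) G))
      p h0 (E := W.presheaf.stalk p) e₀.left
      (((Scheme.Hom.comp_apply e₀.left G.hom _).symm.trans (congrArg (fun φ : Spec (W.presheaf.stalk p) ⟶ W => φ.base (IsLocalRing.closedPoint (W.presheaf.stalk p))) (Over.w e₀))).trans
        (Scheme.fromSpecStalk_closedPoint (x := p))) hfin Y τ g (t ≫ e₀) rfl
  have h2 := (lift_bi a b g (t ≫ e₀)).symm.trans h1
  rw [show t ≫ e₀ = 1 from MonObj.comp_one t, _root_.mul_one, mul_inv_eq_one] at h2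
  rw [MonObj.comp_mul, GrpObj.comp_inv, mul_inv_eq_one]
  exact h2.symm

variable {S : Scheme.{u}} {G H₁ H₂ : Over S} [GrpObj G] [GrpObj H₁] [GrpObj H₂]

/-- Two etale charts at once. -/
theorem exists_etale_chart₂ (h₁ : HasChartsFpqc fgM H₁) (h₂ : HasChartsFpqc fgM H₂) (x : S) :
    ∃ (R' : CommRingCat.{u}) (f : Spec R' ⟶ S), Etale f ∧ x ∈ Set.range f.base ∧ HasChart fgM H₁ f ∧
      HasChart fgM H₂ f := by
  obtain ⟨R₁, f₁, hf₁, ⟨p₁, hp₁⟩, hc₁⟩ := exists_etale_chart h₁ x
  obtain ⟨R₂, f₂, hf₂, ⟨p₂, hp₂⟩, hc₂⟩ := exists_etale_chart h₂ x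
  haveI := hf₁
  haveI := hf₂
  obtain ⟨P, hP₁, -⟩ := Scheme.Pullback.exists_preimage_pullback (f := f₁) (g := f₂) p₁ p₂ (hp₁.trans hp₂.symm)
  obtain ⟨U, hU, hPU, -⟩ := exists_isAffineOpen_mem_and_subset
    (show P ∈ (⊤ : (pullback f₁ f₂).Opens) from TopologicalSpace.Opens.mem_top _)
  obtain ⟨z, hz⟩ : P ∈ Set.range hU.fromSpec.base := by rw [hU.range_fromSpec]; exact hPU
  haveI : IsOpenImmersion hU.fromSpec := hU.isOpenImmersion_fromSpec
  refine ⟨_, hU.fromSpec ≫ pullback.fst f₁ f₂ ≫ f₁, inferInstance, ⟨z, ?_⟩,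
    hc₁.precomp (hU.fromSpec ≫ pullback.fst f₁ f₂) _ (Category.assoc _ _ _).symm,
    hc₂.precomp (hU.fromSpec ≫ pullback.snd f₁ f₂) _ (by rw [pullback.condition, Category.assoc])⟩
  rw [Scheme.Hom.comp_apply, hz, Scheme.Hom.comp_apply, hP₁, hp₁]

/-- Coincidence on the fibre gives coincidence on the local ring. -/
theorem factor_stalk (h₁ : HasChartsFpqc fgM H₁) (h₂ : HasChartsFpqc fgM H₂) (i₁ : H₁ ⟶ G) [IsMonHom i₁]
    [Mono i₁] (i₂ : H₂ ⟶ G) [IsMonHom i₂] [Mono i₂] (s : S)
    (hfin : LocallyOfFiniteType G.hom ∨ IsLocallyNoetherian S) (hc : TrivialAt (conjAction i₁) s)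
    (hf : Factor i₁ i₂ (S.fromSpecResidueField s)) (hf' : Factor i₂ i₁ (S.fromSpecResidueField s)) :
    Factor i₁ i₂ (S.fromSpecStalk s) ∧ Factor i₂ i₁ (S.fromSpecStalk s) := by
  obtain ⟨R', f, het, ⟨p, rfl⟩, ⟨M, _, hM, ⟨e₁⟩⟩, ⟨M', _, hM', ⟨e₂⟩⟩⟩ := exists_etale_chart₂ h₁ h₂ s
  haveI := het
  let W := Spec R'
  let a₁ : Red.bc f H₁ ≅ Red.DS W M := (Grp.forget _).mapIso e₁
  let a₂ : Red.bc f H₂ ≅ Red.DS W M' := (Grp.forget _).mapIso e₂
  haveI : IsMonHom a₁.inv := e₁.inv.hom.isMonHom_hom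
  haveI : IsMonHom a₂.inv := e₂.inv.hom.isMonHom_hom
  haveI : (Over.pullback f).IsRightAdjoint := (Over.mapPullbackAdj f).isRightAdjoint
  let j₁ : Red.DS W M ⟶ Red.bc f G := a₁.inv ≫ (Over.pullback f).map i₁
  let j₂ : Red.DS W M' ⟶ Red.bc f G := a₂.inv ≫ (Over.pullback f).map i₂
  haveI : IsMonHom j₁ := inferInstanceAs (IsMonHom (a₁.inv ≫ (Over.pullback f).map i₁))
  haveI : IsMonHom j₂ := inferInstanceAs (IsMonHom (a₂.inv ≫ (Over.pullback f).map i₂))
  obtain ⟨ρ, hρ⟩ : ∃ ρ : Spec (W.residueField p) ⟶ Spec (S.residueField (f.base p)),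
      ρ ≫ S.fromSpecResidueField (f.base p) = W.fromSpecResidueField p ≫ f :=
    exists_factor_residue (W.fromSpecResidueField p ≫ f) (f.base p)
      (congrArg f.base (Scheme.fromSpecResidueField_apply p _))
  obtain ⟨φ, hφ, U, hzU, hU⟩ := exists_char_of_factor j₁ j₂ hM' (W.fromSpecResidueField p)
    ((factor_chart_iff f a₁ a₂ i₁ i₂ _).mpr (hf.precomp ρ _ hρ.symm))
    ((factor_chart_iff f a₂ a₁ i₂ i₁ _).mpr (hf'.precomp ρ _ hρ.symm))
    (IsLocalRing.closedPoint (W.residueField p))
  haveI : Subsingleton ↥(Spec (W.residueField p)) := inferInstanceAs (Subsingleton (PrimeSpectrum _))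
  obtain rfl : U = ⊤ := TopologicalSpace.Opens.ext (Set.eq_univ_of_forall fun x => by
    rw [Subsingleton.elim x (IsLocalRing.closedPoint (W.residueField p))]
    exact hzU)
  let v : Red.DS W M ⟶ Red.bc f G := Red.DSmap W φ ≫ j₂
  haveI : IsMonHom v := inferInstanceAs (IsMonHom (Red.DSmap W φ ≫ j₂))
  have hloc : TrivOver (v * j₁⁻¹) (W.fromSpecStalk p) := by
    refine trivOver_of_residue hM j₁ v p ?_ ?_ (hU.precomp (Scheme.topIso _).inv _ (by simp))
    · rcases hfin with hG | hS
      · haveI := hG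
        exact Or.inl (inferInstanceAs (LocallyOfFiniteType (pullback.snd G.hom f)))
      · haveI := hS
        haveI : IsLocallyNoetherian (Spec R') := LocallyOfFiniteType.isLocallyNoetherian f
        exact Or.inr inferInstance
    · intro Y σ hσ h x
      have h3 := hc ((Over.map f).obj Y) (σ ≫ ρ) (by
        change (σ ≫ ρ) ≫ S.fromSpecResidueField (f.base p) = Y.hom ≫ f
        rw [Category.assoc, hρ, ← hσ, Category.assoc]) ((bcPoint f H₁ Y).symm (h ≫ a₁.inv))
        ((bcPointMulEquiv f G Y).symm x)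
      have h4 := congrArg (bcPointMulEquiv f G Y) ((lift_conj i₁ _ _).symm.trans h3)
      rw [map_mul, map_mul, map_inv, MulEquiv.apply_symm_apply,
        show bcPointMulEquiv f G Y ((bcPoint f H₁ Y).symm (h ≫ a₁.inv) ≫ i₁) = h ≫ j₁ from
          (bcPoint_comp_right f _ i₁).trans (by rw [Equiv.apply_symm_apply, Category.assoc]),
        mul_inv_eq_iff_eq_mul] at h4
      exact h4
  obtain ⟨g₁, g₂⟩ := factor_of_trivOver j₁ j₂ φ hφ _ hloc
  -- descent
  let π : Spec (W.presheaf.stalk p) ⟶ Spec (S.presheaf.stalk (f.base p)) := Spec.map (f.stalkMap p)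
  have hπ : π ≫ S.fromSpecStalk (f.base p) = W.fromSpecStalk p ≫ f := Scheme.SpecMap_stalkMap_fromSpecStalk f
  have hfl : (f.stalkMap p).hom.Flat := Flat.stalkMap f p
  haveI : Flat π := by
    rw [HasRingHomProperty.Spec_iff (P := @Flat)]
    exact hfl
  haveI : Surjective π := ⟨by
    letI : Algebra (S.presheaf.stalk (f.base p)) (W.presheaf.stalk p) := (f.stalkMap p).hom.toAlgebra
    haveI : Module.Flat (S.presheaf.stalk (f.base p)) (W.presheaf.stalk p) := hfl
    haveI : IsLocalHom (algebraMap (S.presheaf.stalk (f.base p)) (W.presheaf.stalk p)) := f.toLRSHom.prop p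
    haveI : Module.FaithfullyFlat (S.presheaf.stalk (f.base p)) (W.presheaf.stalk p) :=
      Module.FaithfullyFlat.of_flat_of_isLocalHom
    exact PrimeSpectrum.comap_surjective_of_faithfullyFlat (A := S.presheaf.stalk (f.base p))
      (B := W.presheaf.stalk p)⟩
  have desc : ∀ {K K' : Over S} (i : K ⟶ G) (i' : K' ⟶ G) [Mono i'],
      Factor i i' (W.fromSpecStalk p ≫ f) → Factor i i' (S.fromSpecStalk (f.base p)) := fun {K K'} i i' _ h =>
    (factor_iff_isIso i i' _).mpr (pAt_descend (MorphismProperty.isomorphisms Scheme.{u}) (pullback.fst i i') _ π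
      (hπ.symm ▸ (factor_iff_isIso i i' _).mp h))
  exact ⟨desc i₁ i₂ ((factor_chart_iff f a₁ a₂ i₁ i₂ _).mp g₁), desc i₂ i₁ ((factor_chart_iff f a₂ a₁ i₂ i₁ _).mp g₂)⟩

omit [GrpObj G] [GrpObj H₂] in
/-- A factorisation over a local ring of the base spreads to an open neighbourhood. -/
theorem exists_open_factor (h₁ : HasChartsFpqc fgM H₁) (i : H₁ ⟶ G) (i' : H₂ ⟶ G) [IsImmersion i'.left]
    (hi' : LocallyOfFinitePresentation i'.left ∨ IsLocallyNoetherian S) (s : S)
    (h : Factor i i' (S.fromSpecStalk s)) : ∃ U : S.Opens, s ∈ U ∧ Factor i i' U.ι := by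
  haveI : IsAffineHom H₁.hom := GrothLib.EssFree.isAffineHom_of_charts h₁
  obtain ⟨V, hV, hsV, -⟩ :=
    exists_isAffineOpen_mem_and_subset (show s ∈ (⊤ : S.Opens) from TopologicalSpace.Opens.mem_top _)
  set v := hV.fromSpec
  haveI : IsOpenImmersion v := hV.isOpenImmersion_fromSpec
  let P := pullback H₁.hom v
  haveI : IsAffine P := isAffine_of_isAffineHom (pullback.snd H₁.hom v)
  let A := Γ(P, ⊤)
  let B := Γ(S, V)
  let α : Spec A ⟶ H₁.left := P.isoSpec.inv ≫ pullback.fst H₁.hom v
  letI : Algebra B A := (Spec.preimage (P.isoSpec.inv ≫ pullback.snd H₁.hom v)).hom.toAlgebra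
  have hα : P.isoSpec.inv ≫ pullback.snd H₁.hom v = Spec.map (CommRingCat.ofHom (algebraMap B A)) :=
    (Spec.map_preimage _).symm
  haveI : IsImmersion (pullback.fst i.left i'.left) :=
    MorphismProperty.pullback_fst (P := @IsImmersion) _ _ inferInstance
  haveI : LocallyOfFinitePresentation (pullback.fst i.left i'.left) := by
    rcases hi' with hl | hS
    · exact MorphismProperty.pullback_fst (P := @LocallyOfFinitePresentation) _ _ hl
    · haveI := hS
      haveI : LocallyOfFinitePresentation H₁.hom := GrothLib.DiagGrp.lfp_of_isMultTypeFT h₁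
      haveI : IsLocallyNoetherian H₁.left := LocallyOfFiniteType.isLocallyNoetherian H₁.hom
      exact GrothLib.GrpSchField.lfp_of_isLocallyNoetherian _
  let jP := pullback.fst α (pullback.fst i.left i'.left)
  haveI : IsImmersion jP := MorphismProperty.pullback_fst (P := @IsImmersion) _ _ inferInstance
  haveI : LocallyOfFinitePresentation jP :=
    MorphismProperty.pullback_fst (P := @LocallyOfFinitePresentation) _ _ inferInstance
  let Q := (hV.primeIdealOf ⟨s, hsV⟩).asIdeal
  let N : Submonoid A := Algebra.algebraMapSubmonoid A Q.primeCompl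
  haveI := hV.isLocalization_stalk ⟨s, hsV⟩
  letI := TopCat.Presheaf.algebra_section_stalk S.presheaf ⟨s, hsV⟩
  let φ : S.presheaf.stalk s →+* Localization N := IsLocalization.lift (M := Q.primeCompl)
    (g := (algebraMap A (Localization N)).comp (algebraMap B A))
    fun b => IsLocalization.map_units (M := N) (Localization N)
      ⟨algebraMap B A (b : B), Algebra.mem_algebraMapSubmonoid_of_mem b⟩
  have hφ : φ.comp (algebraMap B (S.presheaf.stalk s)) = (algebraMap A (Localization N)).comp (algebraMap B A) :=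
    IsLocalization.lift_comp _
  have hv : S.fromSpecStalk s = Spec.map (CommRingCat.ofHom (algebraMap B (S.presheaf.stalk s))) ≫ v :=
    (hV.fromSpecStalk_eq_fromSpecStalk hsV).symm
  let m := Spec.map (CommRingCat.ofHom (algebraMap A (Localization N))) ≫ α
  obtain ⟨y, hy⟩ := h (Over.mk (m ≫ H₁.hom)) (Spec.map (CommRingCat.ofHom φ)) (by
    change _ = m ≫ H₁.hom
    have h3 : Spec.map (CommRingCat.ofHom φ) ≫ Spec.map (CommRingCat.ofHom (algebraMap B (S.presheaf.stalk s))) =
        Spec.map (CommRingCat.ofHom (algebraMap A (Localization N))) ≫ Spec.map (CommRingCat.ofHom (algebraMap B A)) :=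
      ((Spec.map_comp _ _).symm.trans (congrArg Spec.map (CommRingCat.hom_ext hφ))).trans (Spec.map_comp _ _)
    rw [hv]
    refine (Category.assoc _ _ _).symm.trans ((congrArg (· ≫ v) h3).trans ((Category.assoc _ _ _).trans ?_))
    rw [← hα]
    simp only [m, α, Category.assoc, pullback.condition]) (Over.homMk m rfl)
  have hy' : m ≫ i.left = y.left ≫ i'.left := (congrArg Over.Hom.left hy).symm
  obtain ⟨n, hn, l, hl⟩ := exists_away_of_immersion jP N
    (pullback.lift (Spec.map (CommRingCat.ofHom (algebraMap A (Localization N)))) (pullback.lift m y.left hy')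
      (pullback.lift_fst _ _ _).symm) (pullback.lift_fst _ _ _)
  obtain ⟨b, hb, hbn⟩ := Submonoid.mem_map.mp hn
  let D : (Spec (CommRingCat.of B)).Opens := PrimeSpectrum.basicOpen b
  refine ⟨v ''ᵁ D, ⟨hV.primeIdealOf ⟨s, hsV⟩, hb, hV.fromSpec_primeIdealOf ⟨s, hsV⟩⟩, ?_⟩
  intro Y τ hτ g
  have hYr : Set.range Y.hom.base ⊆ Set.range v.base := by
    rintro _ ⟨z, rfl⟩
    rw [← hτ, Scheme.Hom.comp_apply]
    exact Set.image_subset_range _ _ (τ.base z).2
  let yB := IsOpenImmersion.lift v Y.hom hYr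
  have hyB : yB ≫ v = Y.hom := IsOpenImmersion.lift_fac _ _ _
  let p : Y.left ⟶ P := pullback.lift g.left yB ((Over.w g).trans hyB.symm)
  let e := Spec.map (CommRingCat.ofHom (algebraMap A (Localization.Away n)))
  have hr : Set.range (p ≫ P.isoSpec.hom).base ⊆ Set.range e.base := by
    rintro _ ⟨z, rfl⟩
    have h1 : (Spec.map (CommRingCat.ofHom (algebraMap B A))).base ((p ≫ P.isoSpec.hom).base z) = yB.base z := by
      rw [← hα, ← Scheme.Hom.comp_apply, Category.assoc, Iso.hom_inv_id_assoc, pullback.lift_snd]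
    obtain ⟨w, hw, hwy⟩ := (τ.base z).2
    have h2 : yB.base z = w := v.isOpenEmbedding.injective
      (((Scheme.Hom.comp_apply yB v z).symm.trans (congrArg (fun t : Y.left ⟶ S => t.base z)
        (hyB.trans hτ.symm))).trans hwy.symm)
    change _ ∈ Set.range (PrimeSpectrum.comap (algebraMap A (Localization.Away n)))
    rw [PrimeSpectrum.localization_away_comap_range (Localization.Away n) n, ← hbn]
    intro hmem
    have h3 : (w : PrimeSpectrum B) ∈ PrimeSpectrum.basicOpen b := hw
    rw [← h2, ← h1] at h3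
    exact h3 hmem
  have hlift := IsOpenImmersion.lift_fac e (p ≫ P.isoSpec.hom) hr
  let q := IsOpenImmersion.lift e (p ≫ P.isoSpec.hom) hr ≫ l ≫ pullback.snd α (pullback.fst i.left i'.left)
  have hq : q ≫ pullback.fst i.left i'.left = g.left := by
    rw [Category.assoc, Category.assoc, ← pullback.condition]
    change IsOpenImmersion.lift e _ hr ≫ l ≫ jP ≫ α = g.left
    rw [reassoc_of% hl]
    change IsOpenImmersion.lift e _ hr ≫ e ≫ α = g.left
    rw [reassoc_of% hlift, ← Category.assoc p]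
    simp only [α, p, Category.assoc, Iso.hom_inv_id_assoc, pullback.lift_fst]
  have hq' : (q ≫ pullback.snd i.left i'.left) ≫ i'.left = g.left ≫ i.left := by
    rw [Category.assoc, ← pullback.condition, ← Category.assoc, hq]
  exact ⟨Over.homMk (q ≫ pullback.snd i.left i'.left) (by
    rw [← Over.w i', ← Category.assoc, hq', Category.assoc, Over.w i, Over.w g]), Over.OverMorphism.ext hq'⟩

end GrothLib.CentLoc14
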